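import Mathlib.RingTheory.OrderOfVanishing.Basic
import Mathlib.RingTheory.Length
import Mathlib.RingTheory.DedekindDomain.Basic
import Mathlib.RingTheory.IntegralClosure.IsIntegralClosure.Basic
import Mathlib.RingTheory.IntegralClosure.IntegrallyClosed
import Mathlib.RingTheory.Artinian.Module
import Mathlib.RingTheory.KrullDimension.Basic
import Mathlib.RingTheory.Localization.FractionRing
import Mathlib.RingTheory.Localization.Integer
import Mathlib.LinearAlgebra.Dimension.Finite
import Mathlib.RingTheory.Algebraic.Integral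

universe u v w

/-! Krull-Akizuki: in a finite extension of the fraction field of a one-dimensional Noetherian domain,
every intermediate ring is Noetherian of dimension at most one, with finite fibres. -/

namespace Groth.Agent.VarDim1

variable {A : Type u} [CommRing A] {M : Type v} [AddCommGroup M] [Module A M]

/-- The image of multiplication by `a`. -/
noncomputable abbrev smulRange (A : Type u) [CommRing A] (M : Type v) [AddCommGroup M] [Module A M] (a : A) :
    Submodule A M := LinearMap.range (LinearMap.lsmul A M a)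

theorem mem_smulRange {a : A} {x : M} : x ∈ smulRange A M a ↔ ∃ y, a • y = x := Iff.rfl

theorem length_quot_smulRange_pow (a : A) (ha : IsSMulRegular M a) (m : ℕ) :
    Module.length A (M ⧸ smulRange A M (a ^ m)) = (m : ℕ∞) * Module.length A (M ⧸ smulRange A M a) := by
  induction m with
  | zero =>
    have : smulRange A M (a ^ 0) = ⊤ := eq_top_iff.2 fun x _ => ⟨x, by simp⟩
    rw [this, Nat.cast_zero, zero_mul]
    exact Module.length_eq_zero
  | succ m ih =>
    let f : (M ⧸ smulRange A M a) →ₗ[A] (M ⧸ smulRange A M (a ^ (m + 1))) :=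
      Submodule.mapQ _ _ (LinearMap.lsmul A M (a ^ m)) (by
        rintro _ ⟨y, rfl⟩; exact ⟨y, by simp [pow_succ, mul_smul, smul_comm (a ^ m) a]⟩)
    let g : (M ⧸ smulRange A M (a ^ (m + 1))) →ₗ[A] (M ⧸ smulRange A M (a ^ m)) :=
      Submodule.factor (by rintro _ ⟨y, rfl⟩; exact ⟨a • y, by simp [pow_succ, mul_smul, smul_comm a (a ^ m)]⟩)
    have hf : Function.Injective f := by
      rw [injective_iff_map_eq_zero]
      intro x hx
      obtain ⟨x, rfl⟩ := Submodule.Quotient.mk_surjective _ x
      simp only [f, Submodule.mapQ_apply, LinearMap.lsmul_apply, Submodule.Quotient.mk_eq_zero] at hx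
      obtain ⟨y, hy⟩ := hx
      rw [Submodule.Quotient.mk_eq_zero]
      refine ⟨y, (ha.pow m) ?_⟩
      simpa [pow_succ, mul_smul] using hy
    have hg : Function.Surjective g := fun x => by
      obtain ⟨x, rfl⟩ := Submodule.Quotient.mk_surjective _ x
      exact ⟨Submodule.Quotient.mk x, rfl⟩
    have hfg : Function.Exact f g := by
      intro x
      obtain ⟨x, rfl⟩ := Submodule.Quotient.mk_surjective _ x
      constructor
      · intro hx
        have hx' : x ∈ smulRange A M (a ^ m) := (Submodule.Quotient.mk_eq_zero _).1 hx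
        obtain ⟨y, hy⟩ := hx'
        exact ⟨Submodule.Quotient.mk y, by simp [f, ← hy]⟩
      · rintro ⟨y, hy⟩
        obtain ⟨y, rfl⟩ := Submodule.Quotient.mk_surjective _ y
        rw [← hy]
        exact (Submodule.Quotient.mk_eq_zero _).2 ⟨y, rfl⟩
    rw [Module.length_eq_add_of_exact f g hf hg hfg, ih]
    push_cast
    rw [add_mul, one_mul, add_comm]

/-- If `b` kills the target modulo the span of the `e i`. -/
theorem length_le_of_smul_mem (N : Type v) [AddCommGroup N] [Module A N] {ι : Type} [Fintype ι]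
    (e : ι → N) (b : A) (hb : ∀ i, b • e i = 0) (h : Submodule.span A (Set.range e) = ⊤) :
    Module.length A N ≤ (Fintype.card ι : ℕ∞) * Ring.ord A b := by
  classical
  let g : ι → (A ⧸ Ideal.span {b}) →ₗ[A] N := fun i =>
    Submodule.liftQ _ (LinearMap.toSpanSingleton A N (e i)) (by
      intro x hx
      obtain ⟨c, rfl⟩ := Ideal.mem_span_singleton'.1 hx
      simp [mul_smul, hb i])
  let G : (ι → A ⧸ Ideal.span {b}) →ₗ[A] N := LinearMap.lsum A _ A g
  have hG : Function.Surjective G := by
    rw [← LinearMap.range_eq_top, eq_top_iff, ← h, Submodule.span_le]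
    rintro _ ⟨i, rfl⟩
    refine ⟨Pi.single i (Submodule.Quotient.mk 1), ?_⟩
    simp only [G, LinearMap.lsum_apply, LinearMap.sum_apply, LinearMap.comp_apply, LinearMap.proj_apply]
    rw [Finset.sum_eq_single i (fun j _ hj => by rw [Pi.single_eq_of_ne hj, map_zero])
      (fun h => absurd (Finset.mem_univ i) h), Pi.single_eq_same]
    exact one_smul A (e i)
  refine (Module.length_le_of_surjective G hG).trans ?_
  rw [Module.length_pi_of_fintype, Ring.ord]
  simp

variable [IsDomain A] [IsNoetherianRing A] [Ring.KrullDimLE 1 A]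
variable [Module.IsTorsionFree A M]

theorem length_quot_le_of_span (a : A) (ha : a ≠ 0) {ι κ : Type} [Fintype ι] [Fintype κ]
    (e : ι → M) (g : κ → M) (hg : Submodule.span A (Set.range g) = ⊤) (c : A) (hc : c ≠ 0)
    (hce : ∀ j, c • g j ∈ Submodule.span A (Set.range e)) :
    Module.length A (M ⧸ smulRange A M a) ≤ (Fintype.card ι : ℕ∞) * Ring.ord A a := by
  have hord : ∀ b : A, b ≠ 0 → Ring.ord A b ≠ ⊤ := fun b hb =>
    Ring.ord_ne_top (mem_nonZeroDivisors_of_ne_zero hb)
  obtain ⟨o, ho⟩ := ENat.ne_top_iff_exists.1 (hord a ha)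
  obtain ⟨p, hp⟩ := ENat.ne_top_iff_exists.1 (hord c hc)
  have hreg : IsSMulRegular M a := IsSMulRegular.of_ne_zero ha
  have key : ∀ m : ℕ, (m : ℕ∞) * Module.length A (M ⧸ smulRange A M a) ≤
      (Fintype.card ι : ℕ∞) * ((m : ℕ∞) * o) + (Fintype.card κ : ℕ∞) * p := by
    intro m
    rw [← length_quot_smulRange_pow a hreg m]
    let q := (smulRange A M (a ^ m)).mkQ
    let S : Submodule A (M ⧸ smulRange A M (a ^ m)) := Submodule.span A (Set.range (q ∘ e))
    rw [Module.length_eq_add_of_exact S.subtype S.mkQ (Submodule.subtype_injective _)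
      (Submodule.mkQ_surjective _) (LinearMap.exact_subtype_mkQ _)]
    gcongr
    · let e' : ι → S := fun i => ⟨q (e i), Submodule.subset_span ⟨i, rfl⟩⟩
      refine (length_le_of_smul_mem S e' (a ^ m) (fun i => Subtype.ext ?_) ?_).trans ?_
      · exact ((map_smul q _ _).symm.trans ((Submodule.Quotient.mk_eq_zero _).2 ⟨e i, rfl⟩))
      · apply Submodule.map_injective_of_injective S.subtype_injective
        rw [Submodule.map_span, Submodule.map_subtype_top, ← Set.range_comp]
        rfl
      · rw [Ring.ord_pow (mem_nonZeroDivisors_of_ne_zero ha), ← ho, nsmul_eq_mul]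
    · refine (length_le_of_smul_mem _ (fun j => S.mkQ (q (g j))) c (fun j => ?_) ?_).trans (by rw [← hp])
      · rw [← map_smul, ← map_smul, Submodule.mkQ_apply, Submodule.Quotient.mk_eq_zero]
        have := Submodule.mem_map_of_mem (f := q) (hce j)
        rwa [Submodule.map_span, ← Set.range_comp] at this
      · have : (fun j => S.mkQ (q (g j))) = ⇑(S.mkQ ∘ₗ q) ∘ g := rfl
        rw [this, Set.range_comp, ← Submodule.map_span, hg, Submodule.map_top,
          LinearMap.range_eq_top]
        exact (Submodule.mkQ_surjective S).comp (Submodule.mkQ_surjective _)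
  have hne : Module.length A (M ⧸ smulRange A M a) ≠ ⊤ := by
    intro h
    have := key 1
    rw [h, Nat.cast_one, one_mul, one_mul, ← Nat.cast_mul, ← Nat.cast_mul, ← Nat.cast_add] at this
    exact absurd (top_le_iff.1 this) (ENat.natCast_ne_top _)
  obtain ⟨l, hl⟩ := ENat.ne_top_iff_exists.1 hne
  rw [← hl, ← ho]
  have := key (Fintype.card κ * p + 1)
  rw [← hl] at this
  norm_cast at this ⊢
  by_contra hlt
  push Not at hlt
  have h2 := Nat.mul_le_mul_left (Fintype.card κ * p + 1) (Nat.succ_le_of_lt hlt)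
  nlinarith

variable {L : Type w} [Field L] [Algebra A L] [FaithfulSMul A L]
variable (K : Type u) [Field K] [Algebra A K] [IsFractionRing A K] [Algebra K L] [IsScalarTower A K L]
variable [FiniteDimensional K L]

omit [FaithfulSMul A L] in
include K in
theorem length_quot_smulRange_le_of_fg [Module.Finite A M] (φ : M →ₗ[A] L) (hφ : Function.Injective φ)
    (a : A) (ha : a ≠ 0) :
    Module.length A (M ⧸ smulRange A M a) ≤ (Module.finrank K L : ℕ∞) * Ring.ord A a := by
  classical
  obtain ⟨n, g, hg⟩ := Module.Finite.exists_fin (R := A) (M := M)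
  obtain ⟨b, hbsub, hbspan, hbli⟩ := exists_linearIndependent K (Set.range (φ ∘ g))
  have hbfin : b.Finite := (Set.finite_range _).subset hbsub
  have : Fintype b := hbfin.fintype
  have hcard : Fintype.card b ≤ Module.finrank K L := hbli.fintype_card_le_finrank
  choose j hj using fun x : b => hbsub x.2
  let m := Fintype.card b
  let eq : Fin m ≃ b := (Fintype.equivFin b).symm
  have hex : ∀ i : Fin n, ∃ c : A, c ≠ 0 ∧ c • g i ∈ Submodule.span A (Set.range fun x : Fin m => g (j (eq x))) := by
    intro i
    have hi : φ (g i) ∈ Submodule.span K b := hbspan ▸ Submodule.subset_span ⟨i, rfl⟩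
    obtain ⟨f, hf⟩ := (Submodule.mem_span_range_iff_exists_fun K).1
      (show φ (g i) ∈ Submodule.span K (Set.range fun x : Fin m => (eq x : L)) by
        convert hi using 3
        ext y; exact ⟨fun ⟨x, hx⟩ => hx ▸ (eq x).2, fun hy => ⟨eq.symm ⟨y, hy⟩, by simp⟩⟩)
    obtain ⟨⟨c, hc⟩, hcf⟩ := IsLocalization.exist_integer_multiples (nonZeroDivisors A) Finset.univ f
    choose r hr using fun x => hcf x (Finset.mem_univ x)
    refine ⟨c, nonZeroDivisors.ne_zero hc, ?_⟩
    have : c • g i = ∑ x, r x • g (j (eq x)) := hφ (by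
      rw [map_smul, map_sum, ← hf, Finset.smul_sum]
      refine Finset.sum_congr rfl fun x _ => ?_
      rw [map_smul, show φ (g (j (eq x))) = (eq x : L) from hj (eq x), ← smul_assoc,
        ← hr x, IsScalarTower.algebraMap_smul])
    rw [this]
    exact Submodule.sum_mem _ fun x _ => Submodule.smul_mem _ _ (Submodule.subset_span ⟨x, rfl⟩)
  choose c hc0 hc using hex
  refine (length_quot_le_of_span a ha (fun x : Fin m => g (j (eq x))) g hg (∏ i, c i)
    (Finset.prod_ne_zero_iff.2 fun i _ => hc0 i) fun i => ?_).trans ?_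
  · rw [← Finset.mul_prod_erase _ _ (Finset.mem_univ i), mul_comm, mul_smul]
    exact Submodule.smul_mem _ _ (hc i)
  · rw [Fintype.card_fin]
    exact mul_le_mul_left (Nat.cast_le.2 hcard) (Ring.ord A a)

omit [FaithfulSMul A L] in
include K in
theorem length_quot_smulRange_le (φ : M →ₗ[A] L) (hφ : Function.Injective φ) (a : A) (ha : a ≠ 0) :
    Module.length A (M ⧸ smulRange A M a) ≤ (Module.finrank K L : ℕ∞) * Ring.ord A a := by
  classical
  set B := (Module.finrank K L : ℕ∞) * Ring.ord A a
  have hB : B ≠ ⊤ := WithTop.mul_ne_top (ENat.natCast_ne_top _) (Ring.ord_ne_top (mem_nonZeroDivisors_of_ne_zero ha))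
  let q := (smulRange A M a).mkQ
  have hbound : ∀ s : Finset M, Module.length A (Submodule.span A (q '' (s : Set M))) ≤ B := by
    intro s
    let S : Submodule A M := Submodule.span A (s : Set M)
    have : Module.Finite A S := Module.Finite.span_of_finite A s.finite_toSet
    refine le_trans ?_ (length_quot_smulRange_le_of_fg K (φ ∘ₗ S.subtype) (hφ.comp S.subtype_injective) a ha)
    let f : (S ⧸ smulRange A S a) →ₗ[A] (M ⧸ smulRange A M a) :=
      Submodule.mapQ _ _ S.subtype (by rintro _ ⟨y, rfl⟩; exact ⟨y, rfl⟩)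
    have hmem : ∀ x, f x ∈ Submodule.span A (q '' (s : Set M)) := fun x => by
      obtain ⟨x, rfl⟩ := Submodule.Quotient.mk_surjective _ x
      rw [← Submodule.map_span]
      exact ⟨x, x.2, rfl⟩
    refine Module.length_le_of_surjective (f.codRestrict _ hmem) fun ⟨y, hy⟩ => ?_
    rw [← Submodule.map_span] at hy
    obtain ⟨x, hx, rfl⟩ := hy
    exact ⟨Submodule.Quotient.mk ⟨x, hx⟩, Subtype.ext rfl⟩
  obtain ⟨N, hN⟩ := ENat.ne_top_iff_exists.1 hB
  let P : ℕ → Prop := fun n => ∃ s : Finset M, (n : ℕ∞) = Module.length A (Submodule.span A (q '' (s : Set M)))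
  have hP0 : P 0 := ⟨∅, by
    rw [Nat.cast_zero, eq_comm, Module.length_eq_zero_iff, Submodule.subsingleton_iff_eq_bot]; simp⟩
  let n₀ := Nat.findGreatest P N
  obtain ⟨s, hs⟩ : P n₀ := Nat.findGreatest_spec (Nat.zero_le _) hP0
  suffices Submodule.span A (q '' (s : Set M)) = ⊤ by
    have h := hbound s
    rwa [this, Module.length_top] at h
  rw [eq_top_iff]
  intro y _
  obtain ⟨x, rfl⟩ := Submodule.mkQ_surjective _ y
  let S := Submodule.span A (q '' (s : Set M))
  let S' := Submodule.span A (q '' ((insert x s : Finset M) : Set M))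
  have hle : S ≤ S' := Submodule.span_mono (Set.image_mono (by simp))
  obtain ⟨l, hl⟩ := ENat.ne_top_iff_exists.1 (ne_top_of_le_ne_top hB (hbound (insert x s)))
  have hlN : l ≤ N := by
    have := hbound (insert x s); rw [← hl, ← hN] at this; exact_mod_cast this
  have hln : l ≤ n₀ := Nat.le_findGreatest hlN ⟨insert x s, hl⟩
  by_contra hx
  have hlt : S < S' := lt_of_le_of_ne hle fun h => hx (show q x ∈ S by
    rw [h]; exact Submodule.subset_span ⟨x, by simp, rfl⟩)
  have : Module.length A S < Module.length A S' := by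
    have hf : IsFiniteLength A S' := Module.length_ne_top_iff.1 (hl ▸ ENat.natCast_ne_top l)
    obtain ⟨h1, h2⟩ := isFiniteLength_iff_isNoetherian_isArtinian.1 hf
    have he : Module.length A (Submodule.comap S'.subtype S) = Module.length A S :=
      LinearEquiv.length_eq (R := A) { Submodule.comapSubtypeEquivOfLe hle with }
    refine he.symm.trans_lt ?_
    refine Submodule.length_lt fun h => hlt.not_ge ?_
    exact Submodule.comap_subtype_eq_top.1 h
  rw [← hs, ← hl] at this
  exact absurd (Nat.cast_lt.1 this) (not_lt.2 hln)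

omit [IsNoetherianRing A] [Ring.KrullDimLE 1 A] [FaithfulSMul A L] in
include K in
theorem exists_ne_zero_algebraMap_eq_mul (B : Subalgebra A L) {b : B} (hb : b ≠ 0) :
    ∃ a : A, a ≠ 0 ∧ ∃ c : B, b * c = algebraMap A B a := by
  have : Algebra.IsAlgebraic A L := by
    have := IsLocalization.isAlgebraic K (nonZeroDivisors A)
    exact Algebra.IsAlgebraic.trans A K L
  obtain ⟨a, ha, c, hc⟩ := ((isAlgebraic_algHom_iff B.val Subtype.val_injective).1
    (Algebra.IsAlgebraic.isAlgebraic (R := A) (b : L))).exists_nonzero_dvd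
    (mem_nonZeroDivisors_of_ne_zero hb)
  exact ⟨a, ha, c, hc.symm⟩

section Subalgebra

variable (B : Subalgebra A L)

include K in
theorem isFiniteLength_subalgebra_quotient {a : A} (ha : a ≠ 0) :
    IsFiniteLength A (B ⧸ smulRange A B a) :=
  Module.length_ne_top_iff.1 (ne_top_of_le_ne_top
    (WithTop.mul_ne_top (ENat.natCast_ne_top _) (Ring.ord_ne_top (mem_nonZeroDivisors_of_ne_zero ha)))
    (length_quot_smulRange_le K B.val.toLinearMap Subtype.val_injective a ha))

include K in
theorem isFiniteLength_quotient_of_ne_bot {I : Ideal B} (hI : I ≠ ⊥) :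
    IsFiniteLength A (B ⧸ I) := by
  obtain ⟨b, hbI, hb⟩ := Submodule.exists_mem_ne_zero_of_ne_bot hI
  obtain ⟨a, ha, c, hc⟩ := exists_ne_zero_algebraMap_eq_mul K B hb
  let f : (B ⧸ smulRange A B a) →ₗ[A] (B ⧸ I) :=
    Submodule.liftQ _ (Ideal.Quotient.mkₐ A I).toLinearMap (by
      rintro _ ⟨y, rfl⟩
      simp only [LinearMap.mem_ker, AlgHom.toLinearMap_apply, LinearMap.lsmul_apply,
        Ideal.Quotient.mkₐ_eq_mk, Ideal.Quotient.eq_zero_iff_mem, Algebra.smul_def, ← hc]
      exact I.mul_mem_right _ (I.mul_mem_right _ hbI))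
  refine (isFiniteLength_subalgebra_quotient K B ha).of_surjective (f := f) fun x => ?_
  obtain ⟨x, rfl⟩ := Ideal.Quotient.mk_surjective x
  exact ⟨Submodule.Quotient.mk x, rfl⟩

include K in
theorem isArtinianRing_quotient {I : Ideal B} (hI : I ≠ ⊥) : IsArtinianRing (B ⧸ I) := by
  obtain ⟨-, h⟩ := isFiniteLength_iff_isNoetherian_isArtinian.1 (isFiniteLength_quotient_of_ne_bot K B hI)
  exact isArtinian_of_tower A h

include K in
theorem finite_quotient {I : Ideal B} (hI : I ≠ ⊥) : Module.Finite A (B ⧸ I) := by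
  obtain ⟨h, -⟩ := isFiniteLength_iff_isNoetherian_isArtinian.1 (isFiniteLength_quotient_of_ne_bot K B hI)
  exact Module.IsNoetherian.finite A (B ⧸ I)

include K in
/-- Krull-Akizuki: Noetherian. -/
theorem isNoetherianRing_subalgebra : IsNoetherianRing B := by
  rw [isNoetherianRing_iff_ideal_fg]
  intro J
  by_cases hJ : J = ⊥
  · exact hJ ▸ Submodule.fg_bot
  obtain ⟨b, hbJ, hb⟩ := Submodule.exists_mem_ne_zero_of_ne_bot hJ
  have hI : Ideal.span {b} ≠ ⊥ := by simpa using hb
  have := isArtinianRing_quotient K B hI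
  refine Ideal.FG.map ?_ (RingHom.id B) |> fun h => (Ideal.map_id J) ▸ h
  refine Submodule.fg_of_fg_map_of_fg_inf_ker (Ideal.Quotient.mkₐ B (Ideal.span {b})).toLinearMap ?_ ?_
  · have : IsNoetherian B (B ⧸ Ideal.span {b}) :=
      isNoetherian_of_tower A (isFiniteLength_iff_isNoetherian_isArtinian.1
        (isFiniteLength_quotient_of_ne_bot K B hI)).1
    exact IsNoetherian.noetherian _
  · have : LinearMap.ker (Ideal.Quotient.mkₐ B (Ideal.span {b})).toLinearMap = Ideal.span {b} := by
      ext x; simp [Ideal.Quotient.eq_zero_iff_mem]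
    rw [this, inf_eq_right.2 (Ideal.span_le.2 (by simpa using hbJ))]
    exact Submodule.fg_span_singleton b

include K in
theorem krullDimLE_subalgebra : Ring.KrullDimLE 1 B := by
  rw [Ring.krullDimLE_one_iff_of_noZeroDivisors]
  intro P hP hPp
  have := isArtinianRing_quotient K B hP
  exact Ideal.Quotient.maximal_of_isField _ (IsArtinianRing.isField_of_isDomain _)

include K in
theorem finite_setOf_prime_ge {I : Ideal B} (hI : I ≠ ⊥) :
    {P : Ideal B | P.IsPrime ∧ I ≤ P}.Finite := by
  have := isArtinianRing_quotient K B hI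
  have hfin : Finite (PrimeSpectrum (B ⧸ I)) := inferInstance
  refine Set.Finite.subset (Set.finite_range fun q : PrimeSpectrum (B ⧸ I) => q.asIdeal.comap (Ideal.Quotient.mk I)) ?_
  rintro P ⟨hP, hIP⟩
  refine ⟨⟨P.map (Ideal.Quotient.mk I), Ideal.map_isPrime_of_surjective Ideal.Quotient.mk_surjective (by simpa)⟩, ?_⟩
  simp [Ideal.comap_map_of_surjective _ Ideal.Quotient.mk_surjective, hIP, ← RingHom.ker_eq_comap_bot]

end Subalgebra

include K in
theorem isDedekindDomain_integralClosure : IsDedekindDomain (integralClosure A L) := by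
  have : Algebra.IsAlgebraic A L := by
    have := IsLocalization.isAlgebraic K (nonZeroDivisors A)
    exact Algebra.IsAlgebraic.trans A K L
  have : IsFractionRing (integralClosure A L) L := integralClosure.isFractionRing_of_algebraic (A := A)
    fun x hx => (FaithfulSMul.algebraMap_eq_zero_iff A L).1 hx
  rw [isDedekindDomain_iff _ L]
  refine ⟨inferInstance, isNoetherianRing_subalgebra K _, ⟨fun {P} hP hPp => ?_⟩, fun {x} hx => ?_⟩
  · have := krullDimLE_subalgebra K (integralClosure A L)
    exact hPp.isMaximal_of_ne_bot hP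
  · exact ⟨⟨x, isIntegral_trans x hx⟩, rfl⟩

end Groth.Agent.VarDim1
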