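import Groth.Agent.VarDim1.KrullAkizuki
import Mathlib.RingTheory.Valuation.LocalSubring
import Mathlib.RingTheory.Localization.AsSubring
import Mathlib.RingTheory.DedekindDomain.Dvr
import Mathlib.RingTheory.Jacobson.Ideal
import Mathlib.RingTheory.Spectrum.Maximal.Basic
import Mathlib.RingTheory.IntegralClosure.Algebra.Basic
import Mathlib.RingTheory.Ideal.GoingUp
import Mathlib.RingTheory.KrullDimension.Field

universe u

namespace Groth.Agent.VarDim1

section Basic

variable {B : Type u} [CommRing B]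

theorem krullDimLE_one_of_eq (h : ringKrullDim B = 1) : Ring.KrullDimLE 1 B := by
  rw [Ring.KrullDimLE, Order.krullDimLE_iff]; exact h.le

theorem not_isField_of_eq_one (h : ringKrullDim B = 1) : ¬ IsField B := fun hf => by
  let := hf.toField
  rw [ringKrullDim_eq_zero_of_field] at h; simp at h

theorem exists_ne_zero_mem_jacobson [IsDomain B] [Finite (MaximalSpectrum B)] (hB : ¬ IsField B) :
    ∃ z : B, z ≠ 0 ∧ z ∈ (⊥ : Ideal B).jacobson := by
  classical
  cases nonempty_fintype (MaximalSpectrum B)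
  have : ∀ m : MaximalSpectrum B, ∃ z ∈ m.asIdeal, z ≠ 0 := fun m =>
    Submodule.exists_mem_ne_zero_of_ne_bot (Ring.ne_bot_of_isMaximal_of_not_isField m.isMaximal hB)
  choose z hz hz0 using this
  refine ⟨∏ m, z m, Finset.prod_ne_zero_iff.2 fun m _ => hz0 m, Submodule.mem_sInf.2 ?_⟩
  rintro M ⟨-, hM⟩
  exact Ideal.prod_mem M (Finset.mem_univ (⟨M, hM⟩ : MaximalSpectrum B)) (hz ⟨M, hM⟩)

theorem exists_pow_dvd [IsDomain B] [Ring.KrullDimLE 1 B] {w d : B} (hd : d ≠ 0)
    (hw : ∀ P : Ideal B, P.IsMaximal → w ∈ P) : ∃ n, d ∣ w ^ n := by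
  have : w ∈ (Ideal.span {d}).radical := by
    rw [Ideal.radical_eq_sInf]
    refine Submodule.mem_sInf.2 fun P ⟨hle, hP⟩ => hw P (hP.isMaximal_of_ne_bot fun h => hd ?_)
    simpa [h] using hle (Ideal.mem_span_singleton_self d)
  obtain ⟨n, hn⟩ := this
  exact ⟨n, Ideal.mem_span_singleton.1 hn⟩

end Basic

section Frac

variable {K : Type u} [Field K] {B : Type u} [CommRing B] [IsDomain B] [Algebra B K] [IsFractionRing B K]

omit [IsDomain B] in
theorem algebraMap_mem_jacobson_iff {b : B} :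
    b ∈ (⊥ : Ideal B).jacobson ↔ ∀ P : Ideal B, P.IsMaximal → b ∈ P :=
  ⟨fun h P hP => Submodule.mem_sInf.1 h P ⟨bot_le, hP⟩, fun h => Submodule.mem_sInf.2 fun P hP => h P hP.2⟩

theorem exists_forall_pow_mul_mem [Ring.KrullDimLE 1 B] {e : B} (he : e ∈ (⊥ : Ideal B).jacobson)
    (k : K) : ∃ N, ∀ n, N ≤ n → ∃ b ∈ (⊥ : Ideal B).jacobson, algebraMap B K b = algebraMap B K e ^ n * k := by
  obtain ⟨b, ⟨c, hc⟩, hbc⟩ := IsLocalization.exists_mk'_eq (nonZeroDivisors B) k
  obtain ⟨m, a, ha⟩ := exists_pow_dvd (nonZeroDivisors.ne_zero hc) (algebraMap_mem_jacobson_iff.1 he)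
  refine ⟨m + 1, fun n hn => ⟨e ^ (n - m) * a * b, ?_, ?_⟩⟩
  · exact Ideal.mul_mem_right _ _ (Ideal.mul_mem_right _ _ (Ideal.pow_mem_of_mem _ he _ (by omega)))
  · have hn' : n = (n - m) + m := by omega
    rw [← hbc, ← map_pow]
    conv_rhs => rw [hn', pow_add, ha]
    simp only [map_mul]
    rw [← IsLocalization.mk'_spec K b ⟨c, hc⟩]
    ring

variable [IsNoetherianRing B] [Ring.KrullDimLE 1 B]

theorem exists_pow_mul_mem_of_finite (C : Subalgebra B K) [Module.Finite B C] (w : C)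
    (hw : ∀ P : Ideal C, P.IsMaximal → w ∈ P) (J : Ideal B) (hJ : J ≠ ⊥) :
    ∃ n, ∀ y : C, ∃ b ∈ J, algebraMap B K b = (w : K) ^ n * (y : K) := by
  classical
  obtain ⟨z, hzJ, hz⟩ := Submodule.exists_mem_ne_zero_of_ne_bot hJ
  obtain ⟨m, g, hg⟩ := Module.Finite.exists_fin (R := B) (M := C)
  obtain ⟨⟨c, hc⟩, hcg⟩ := IsLocalization.exist_integer_multiples (nonZeroDivisors B) Finset.univ (fun i => (g i : K))
  have hcy : ∀ y : C, ∃ b : B, algebraMap B K b = c • (y : K) := by
    intro y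
    have hy : y ∈ Submodule.span B (Set.range g) := hg ▸ Submodule.mem_top
    induction hy using Submodule.span_induction with
    | mem y hy => obtain ⟨i, rfl⟩ := hy; exact hcg i (Finset.mem_univ i)
    | zero => exact ⟨0, by simp⟩
    | add y₁ y₂ _ _ h₁ h₂ =>
      obtain ⟨b₁, e₁⟩ := h₁; obtain ⟨b₂, e₂⟩ := h₂
      exact ⟨b₁ + b₂, by simp [e₁, e₂, smul_add]⟩
    | smul r y _ h =>
      obtain ⟨b, e⟩ := h
      refine ⟨r * b, ?_⟩
      rw [map_mul, e, Subalgebra.coe_smul, Algebra.smul_def, Algebra.smul_def, Algebra.smul_def]; ring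
  have : Ring.KrullDimLE 1 C := krullDimLE_subalgebra K C
  have hd : algebraMap B C (z * c) ≠ 0 := fun h => by
    have h' : algebraMap B K (z * c) = 0 := by
      simpa using congrArg (fun x : C => (x : K)) h
    rw [IsFractionRing.to_map_eq_zero_iff] at h'
    exact mul_ne_zero hz (nonZeroDivisors.ne_zero hc) h'
  obtain ⟨n, a, ha⟩ := exists_pow_dvd hd hw
  refine ⟨n, fun y => ?_⟩
  obtain ⟨b, hb⟩ := hcy (a * y)
  refine ⟨z * b, J.mul_mem_right _ hzJ, ?_⟩
  have hak : (w : K) ^ n = algebraMap B K (z * c) * (a : K) := by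
    simpa using congrArg (fun x : C => (x : K)) ha
  rw [map_mul, hb, hak, map_mul, Algebra.smul_def]
  push_cast
  ring

omit [IsDomain B] [IsNoetherianRing B] [Ring.KrullDimLE 1 B] in
theorem valuationSubring_eq_top_of_algebraMap (O : ValuationSubring K) (hO : ∀ b : B, algebraMap B K b ∈ O)
    (h : ∀ b : B, b ≠ 0 → (algebraMap B K b)⁻¹ ∈ O) : O = ⊤ := by
  refine eq_top_iff.2 fun x _ => ?_
  obtain ⟨b, ⟨c, hc⟩, rfl⟩ := IsLocalization.exists_mk'_eq (nonZeroDivisors B) x
  have : Nontrivial B := (algebraMap B K).domain_nontrivial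
  rw [IsFractionRing.mk'_eq_div, div_eq_mul_inv]
  exact O.mul_mem _ _ (hO b) (h c (nonZeroDivisors.ne_zero hc))

theorem finite_valuationSubrings [Finite (MaximalSpectrum B)] (hB : ¬ IsField B) :
    {O : ValuationSubring K | (∀ b : B, algebraMap B K b ∈ O) ∧ O ≠ ⊤}.Finite := by
  classical
  let C := integralClosure B K
  have : IsDedekindDomain C := isDedekindDomain_integralClosure K
  have : IsFractionRing C K := integralClosure.isFractionRing_of_finite_extension K K
  obtain ⟨z, hz, hzJ⟩ := exists_ne_zero_mem_jacobson hB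
  have hzC : Ideal.span {algebraMap B C z} ≠ ⊥ := by
    rw [Ne, Ideal.span_singleton_eq_bot]
    intro h
    exact hz ((IsFractionRing.to_map_eq_zero_iff (K := K)).1 (by
      simpa using congrArg (fun x : C => (x : K)) h))
  have hfin := finite_setOf_prime_ge K C hzC
  have hint : ∀ O : ValuationSubring K, (∀ b : B, algebraMap B K b ∈ O) → ∀ x : C, (x : K) ∈ O := by
    intro O hO x
    let f : B →+* O := (algebraMap B K).codRestrict O hO
    let := f.toAlgebra
    have : IsScalarTower B O K := IsScalarTower.of_algebraMap_eq fun _ => rfl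
    have hx : IsIntegral O (x : K) := (show IsIntegral B (x : K) from x.2).tower_top
    obtain ⟨y, hy⟩ := IsIntegrallyClosed.algebraMap_eq_of_integral hx
    rw [← hy]; exact y.2
  let centre : ∀ O : ValuationSubring K, (∀ b : B, algebraMap B K b ∈ O) → Ideal C := fun O hO =>
    (IsLocalRing.maximalIdeal O).comap (C.val.toRingHom.codRestrict O (hint O hO))
  have hinj : ∀ O₁ O₂ : ValuationSubring K, ∀ (h₁ : ∀ b : B, algebraMap B K b ∈ O₁) (h₂ : ∀ b : B, algebraMap B K b ∈ O₂),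
      O₁ ≠ ⊤ → O₂ ≠ ⊤ → centre O₁ h₁ = centre O₂ h₂ → O₁ ≤ O₂ := by
    intro O₁ O₂ h₁ h₂ ne₁ ne₂ heq x hx
    let P := centre O₁ h₁
    have : P.IsPrime := Ideal.comap_isPrime _ _
    have hP : P ≠ ⊥ := by
      intro hP
      refine ne₁ (valuationSubring_eq_top_of_algebraMap O₁ h₁ fun b hb => ?_)
      have hu : ¬ (⟨algebraMap B K b, h₁ b⟩ : O₁) ∈ IsLocalRing.maximalIdeal O₁ := by
        intro hm
        have : algebraMap B C b ∈ P := hm
        rw [hP, Ideal.mem_bot] at this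
        exact hb ((IsFractionRing.to_map_eq_zero_iff (K := K)).1 (by
          simpa using congrArg (fun x : C => (x : K)) this))
      rw [IsLocalRing.mem_maximalIdeal, mem_nonunits_iff, not_not] at hu
      obtain ⟨v, hv⟩ := isUnit_iff_exists_inv.1 hu
      have hv' : algebraMap B K b * (v : K) = 1 := congrArg Subtype.val hv
      rw [show (algebraMap B K b)⁻¹ = (v : K) from (eq_inv_of_mul_eq_one_right hv').symm]
      exact v.2
    let S := Localization.subalgebra.ofField K P.primeCompl P.primeCompl_le_nonZeroDivisors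
    have : IsDiscreteValuationRing S :=
      IsLocalization.AtPrime.isDiscreteValuationRing_of_dedekind_domain C hP S
    have memO : ∀ O (hO : ∀ b : B, algebraMap B K b ∈ O), centre O hO = P → ∀ s ∈ P.primeCompl,
        (algebraMap C K s)⁻¹ ∈ O := by
      intro O hO hc s hs
      have hu : IsUnit ((C.val.toRingHom.codRestrict O (hint O hO)) s) := by
        by_contra hn
        exact hs (hc ▸ (IsLocalRing.mem_maximalIdeal _).2 hn)
      obtain ⟨v, hv⟩ := isUnit_iff_exists_inv.1 hu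
      have hv' : algebraMap C K s * (v : K) = 1 := congrArg Subtype.val hv
      rw [show (algebraMap C K s)⁻¹ = (v : K) from (eq_inv_of_mul_eq_one_right hv').symm]
      exact v.2
    rcases (ValuationRing.isInteger_or_isInteger S x) with ⟨y, hy⟩ | ⟨y, hy⟩
    · obtain ⟨a, s, hs, hyas⟩ := y.2
      rw [← hy, show algebraMap S K y = (y : K) from rfl, hyas]
      exact O₂.mul_mem _ _ (hint O₂ h₂ a) (memO O₂ h₂ heq.symm s hs)
    · obtain ⟨a, s, hs, hyas⟩ := y.2
      rcases eq_or_ne x 0 with rfl | hx0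
      · exact O₂.zero_mem
      have hxi : x⁻¹ = algebraMap C K a * (algebraMap C K s)⁻¹ := by
        rw [← hy, show algebraMap S K y = (y : K) from rfl, hyas]
      by_cases ha : a ∈ P
      · exfalso
        have hm : (C.val.toRingHom.codRestrict O₁ (hint O₁ h₁)) a ∈ IsLocalRing.maximalIdeal O₁ := ha
        have h1 : (1 : O₁) ∈ IsLocalRing.maximalIdeal O₁ := by
          have : (1 : O₁) = (C.val.toRingHom.codRestrict O₁ (hint O₁ h₁)) a * (⟨_, memO O₁ h₁ rfl s hs⟩ * ⟨x, hx⟩) := by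
            apply Subtype.ext
            show (1 : K) = algebraMap C K a * ((algebraMap C K s)⁻¹ * x)
            rw [← mul_assoc, ← hxi, inv_mul_cancel₀ hx0]
          rw [this]; exact Ideal.mul_mem_right _ _ hm
        exact (Ideal.ne_top_iff_one _).1 (IsLocalRing.maximalIdeal.isMaximal _).ne_top h1
      · have : x = algebraMap C K s * (algebraMap C K a)⁻¹ := by
          rw [← inv_inv x, hxi, mul_inv, inv_inv, mul_comm]
        rw [this]
        exact O₂.mul_mem _ _ (hint O₂ h₂ s) (memO O₂ h₂ heq.symm a ha)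
  refine Set.Finite.of_injOn (f := fun O => if h : ∀ b : B, algebraMap B K b ∈ O then centre O h else ⊥)
    ?_ ?_ hfin
  · rintro O ⟨hO, hneO⟩
    simp only [dif_pos hO]
    have hp : (centre O hO).IsPrime := Ideal.comap_isPrime _ _
    refine ⟨hp, Ideal.span_le.2 (Set.singleton_subset_iff.2 ?_)⟩
    have hcont : (centre O hO).comap (algebraMap B C) ≠ ⊥ := by
      intro h0
      have hne : O ≠ ⊤ := ‹_›
      refine hne (valuationSubring_eq_top_of_algebraMap O hO fun b hb => ?_)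
      have hu : ¬ (⟨algebraMap B K b, hO b⟩ : O) ∈ IsLocalRing.maximalIdeal O := fun hm =>
        hb ((Submodule.mem_bot B).1 (h0 ▸ (show b ∈ (centre O hO).comap (algebraMap B C) from hm)))
      rw [IsLocalRing.mem_maximalIdeal, mem_nonunits_iff, not_not] at hu
      obtain ⟨v, hv⟩ := isUnit_iff_exists_inv.1 hu
      have hv' : algebraMap B K b * (v : K) = 1 := congrArg Subtype.val hv
      rw [show (algebraMap B K b)⁻¹ = (v : K) from (eq_inv_of_mul_eq_one_right hv').symm]
      exact v.2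
    exact algebraMap_mem_jacobson_iff.1 hzJ _ ((Ideal.comap_isPrime _ _).isMaximal_of_ne_bot hcont)
  · rintro O₁ ⟨h₁, ne₁⟩ O₂ ⟨h₂, ne₂⟩ heq
    simp only [dif_pos h₁, dif_pos h₂] at heq
    exact le_antisymm (hinj O₁ O₂ h₁ h₂ ne₁ ne₂ heq) (hinj O₂ O₁ h₂ h₁ ne₂ ne₁ heq.symm)

theorem exists_pow_inv_mem_jacobson [Finite (MaximalSpectrum B)] (hB : ¬ IsField B) (x : K)
    (hx : ∀ O : ValuationSubring K, (∀ b : B, algebraMap B K b ∈ O) → O ≠ ⊤ → x ∉ O) :
    ∃ n, 0 < n ∧ ∃ b ∈ (⊥ : Ideal B).jacobson, algebraMap B K b = (x ^ n)⁻¹ := by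
  classical
  have hw : IsIntegral B x⁻¹ := by
    by_contra hc
    let R := (integralClosure B K).toSubring
    have : IsIntegrallyClosedIn R K :=
      Subring.isIntegrallyClosedIn_iff.2 fun {y} hy => isIntegral_trans (R := B) (A := integralClosure B K) y hy
    obtain ⟨V, hV, hxV⟩ := Subring.exists_le_valuationSubring_of_isIntegrallyClosedIn (R := R) hc
    have hne : V ≠ ⊤ := fun h => hxV (h ▸ ValuationSubring.mem_top _)
    exact hxV ((V.mem_or_inv_mem x).resolve_left (hx V (fun b => hV ((integralClosure B K).algebraMap_mem b)) hne))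
  let C := Algebra.adjoin B {x⁻¹}
  have : Module.Finite B C := Module.Finite.iff_fg.2 hw.fg_adjoin_singleton
  have hC : ¬ IsField C := fun h => hB (isField_of_isIntegral_of_isField (R := B) (S := C)
    (fun a b e => IsFractionRing.injective B K (by simpa using congrArg (fun y : C => (y : K)) e)) h)
  obtain ⟨z, hz, hzJ⟩ := exists_ne_zero_mem_jacobson hB
  obtain ⟨n, hn⟩ := exists_pow_mul_mem_of_finite C ⟨x⁻¹, Algebra.self_mem_adjoin_singleton B x⁻¹⟩ (fun P hP => by
    obtain ⟨V, hV, hPV⟩ := Ideal.image_subset_nonunits_valuationSubring (A := C.toSubring) P hP.ne_top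
    have hne : V ≠ ⊤ := by
      intro h
      obtain ⟨p, hp, hp0⟩ := Submodule.exists_mem_ne_zero_of_ne_bot (Ring.ne_bot_of_isMaximal_of_not_isField hP hC)
      have := hPV ⟨p, hp, rfl⟩
      subst h
      rcases (ValuationSubring.mem_nonunits_iff_or _).1 this with h0 | h0
      · exact hp0 (Subtype.ext h0)
      · exact h0 (ValuationSubring.mem_top _)
    have hxV := hx V (fun b => hV (C.algebraMap_mem b)) hne
    let f : C →+* V := C.val.toRingHom.codRestrict V fun y => hV y.2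
    have hle : P ≤ (IsLocalRing.maximalIdeal V).comap f := fun p hp =>
      ValuationSubring.coe_mem_nonunits_iff.1 (hPV ⟨p, hp, rfl⟩)
    rw [hP.eq_of_le (Ideal.comap_ne_top f (IsLocalRing.maximalIdeal.isMaximal V).ne_top) hle]
    refine ValuationSubring.coe_mem_nonunits_iff.1 ?_
    exact V.inv_mem_nonunits_iff.2 (.inr hxV)) (⊥ : Ideal B).jacobson
    (fun h => hz (by rwa [h, Ideal.mem_bot] at hzJ))
  obtain ⟨b, hb, hbe⟩ := hn ⟨x⁻¹, Algebra.self_mem_adjoin_singleton B x⁻¹⟩
  exact ⟨n + 1, Nat.succ_pos n, b, hb, by rw [hbe, pow_succ, mul_inv, inv_pow]⟩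

end Frac

section Subrings

variable {K : Type u} [Field K]

theorem exists_mem_forall_notMem (A : Subring K) (S : Set (ValuationSubring K)) (hS : S.Finite)
    (hA : ∀ O ∈ S, ∃ a ∈ A, a ∉ O) : ∃ x ∈ A, x ≠ 0 ∧ ∀ O ∈ S, x ∉ O := by
  classical
  induction S, hS using Set.Finite.induction_on with
  | empty => exact ⟨1, A.one_mem, one_ne_zero, fun _ h => h.elim⟩
  | @insert O₀ S _ hSfin ih =>
    obtain ⟨x, hxA, hx0, hx⟩ := ih fun O hO => hA O (Set.mem_insert_of_mem _ hO)
    obtain ⟨y, hyA, hy⟩ := hA O₀ (Set.mem_insert _ _)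
    by_cases hx₀ : x ∈ O₀
    swap
    · exact ⟨x, hxA, hx0, by rintro O (rfl | hO); exacts [hx₀, hx O hO]⟩
    obtain ⟨b, hb1, hb⟩ : ∃ b : ℕ, 1 ≤ b ∧ ∀ O ∈ S, y ∉ O → O.valuation y ^ b ≠ O.valuation x := by
      have hbad : (⋃ O ∈ S, {b : ℕ | y ∉ O ∧ O.valuation y ^ b = O.valuation x}).Finite := by
        refine hSfin.biUnion fun O _ => Set.Subsingleton.finite ?_
        rintro b ⟨hyO, hb⟩ c ⟨-, hc⟩
        exact (pow_right_strictMono₀ (not_le.1 fun h => hyO ((O.valuation_le_one_iff y).1 h))).injective (hb.trans hc.symm)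
      obtain ⟨b, hb1, hb⟩ := (Set.Ici_infinite 1).exists_notMem_finite hbad
      exact ⟨b, hb1, fun O hO hyO he => hb (Set.mem_biUnion hO ⟨hyO, he⟩)⟩
    have hmain : ∀ O ∈ insert O₀ S, x + y ^ b ∉ O := by
      intro O hO hmem
      rw [← ValuationSubring.valuation_le_one_iff] at hmem
      by_cases hyO : y ∈ O
      · rcases hO with rfl | hO
        · exact hy hyO
        · refine hx O hO ?_
          rw [ValuationSubring.valuation_le_one_iff] at hmem
          have h2 : y ^ b ∈ O := pow_mem hyO b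
          simpa using sub_mem hmem h2
      have hy1 : 1 < O.valuation y := not_le.1 fun h => hyO ((O.valuation_le_one_iff y).1 h)
      have hyb : 1 < O.valuation (y ^ b) := by rw [map_pow]; exact one_lt_pow₀ hy1 (by omega)
      have hne : O.valuation x ≠ O.valuation (y ^ b) := by
        rcases hO with rfl | hO
        · exact (lt_of_le_of_lt ((O.valuation_le_one_iff x).2 hx₀) hyb).ne
        · rw [map_pow]; exact (hb O hO hyO).symm
      rw [Valuation.map_add_of_distinct_val _ hne] at hmem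
      exact absurd ((le_max_right _ _).trans hmem) (not_le.2 hyb)
    refine ⟨x + y ^ b, A.add_mem hxA (A.pow_mem hyA b), fun h => ?_, hmain⟩
    exact hmain O₀ (Set.mem_insert _ _) (h ▸ O₀.zero_mem)

theorem exists_inv_mem_jacobson {ι : Type*} [Finite ι] (A : Subring K) (B : ι → Subring K)
    [∀ i, IsNoetherianRing (B i)] [∀ i, IsFractionRing (B i) K]
    (hdim : ∀ i, ringKrullDim (B i) = 1) (hsl : ∀ i, Finite (MaximalSpectrum (B i)))
    (hgen : ∀ i, A ⊔ B i = ⊤) :
    ∃ x : K, x ∈ A ∧ x ≠ 0 ∧ ∀ i, ∃ hx : x⁻¹ ∈ B i, (⟨x⁻¹, hx⟩ : B i) ∈ (⊥ : Ideal (B i)).jacobson := by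
  classical
  cases nonempty_fintype ι
  let S : Set (ValuationSubring K) := ⋃ i, {O | (∀ b : B i, algebraMap (B i) K b ∈ O) ∧ O ≠ ⊤}
  have hS : S.Finite := Set.finite_iUnion fun i => by
    have := krullDimLE_one_of_eq (hdim i); have := hsl i
    exact finite_valuationSubrings (not_isField_of_eq_one (hdim i))
  obtain ⟨x, hxA, hx0, hx⟩ := exists_mem_forall_notMem A S hS (by
    intro O hO
    obtain ⟨i, hB, hne⟩ := Set.mem_iUnion.1 hO
    by_contra hc
    push Not at hc
    refine hne (eq_top_iff.2 fun z _ => ?_)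
    have : A ⊔ B i ≤ O.toSubring := sup_le hc fun b hb => hB ⟨b, hb⟩
    exact this (hgen i ▸ Subring.mem_top z))
  have key : ∀ i, ∃ n, 0 < n ∧ ∃ b ∈ (⊥ : Ideal (B i)).jacobson, algebraMap (B i) K b = (x ^ n)⁻¹ := fun i => by
    have := krullDimLE_one_of_eq (hdim i); have := hsl i
    exact exists_pow_inv_mem_jacobson (not_isField_of_eq_one (hdim i)) x fun O hO hne =>
      hx O (Set.mem_iUnion.2 ⟨i, hO, hne⟩)
  choose n hn b hb hbe using key
  refine ⟨x ^ (∏ i, n i), A.pow_mem hxA _, pow_ne_zero _ hx0, fun i => ?_⟩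
  obtain ⟨m, hm⟩ := Finset.dvd_prod_of_mem n (Finset.mem_univ i)
  have hm0 : 0 < m := by
    have : 0 < ∏ i, n i := Finset.prod_pos fun i _ => hn i
    rcases Nat.eq_zero_or_pos m with h | h
    · simp [hm, h] at this
    · exact h
  have e : ((b i ^ m : B i) : K) = (x ^ (∏ i, n i))⁻¹ := by
    rw [SubmonoidClass.coe_pow, show ((b i : B i) : K) = (x ^ n i)⁻¹ from hbe i, ← inv_pow, ← inv_pow, ← pow_mul, ← hm]
  refine ⟨e ▸ (b i ^ m).2, ?_⟩
  convert Ideal.pow_mem_of_mem _ (hb i) m hm0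
  exact e.symm

theorem exists_isUnit_mem_jacobson {ι : Type*} [Finite ι] (A : Subring K) [IsFractionRing A K]
    (hdimA : ringKrullDim A = 1) [Finite (MaximalSpectrum A)]
    (B : ι → Subring K) [∀ i, IsNoetherianRing (B i)] [∀ i, IsFractionRing (B i) K]
    (hdim : ∀ i, ringKrullDim (B i) = 1) (hsl : ∀ i, Finite (MaximalSpectrum (B i)))
    (hgen : ∀ i, A ⊔ B i = ⊤) :
    ∃ e : A, IsUnit e ∧ ∀ i, ∃ he : (e : K) ∈ B i, (⟨e, he⟩ : B i) ∈ (⊥ : Ideal (B i)).jacobson := by
  classical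
  cases nonempty_fintype ι
  obtain ⟨z, hz, hzJ⟩ := exists_ne_zero_mem_jacobson (not_isField_of_eq_one hdimA)
  obtain ⟨x, hxA, hx0, hx⟩ := exists_inv_mem_jacobson A B hdim hsl hgen
  choose hxB hxJ using hx
  have key : ∀ i, ∃ N, ∀ n, N ≤ n → ∃ b ∈ (⊥ : Ideal (B i)).jacobson,
      algebraMap (B i) K b = algebraMap (B i) K ⟨x⁻¹, hxB i⟩ ^ n * (z : K)⁻¹ := fun i => by
    have := krullDimLE_one_of_eq (hdim i)
    exact exists_forall_pow_mul_mem (hxJ i) _
  choose N hN using key
  let m := Finset.univ.sup N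
  let u : A := 1 + ⟨x, hxA⟩ ^ m * z
  have hu : IsUnit u := by
    have := Ideal.mem_jacobson_bot.1 hzJ (⟨x, hxA⟩ ^ m)
    rwa [add_comm, mul_comm] at this
  obtain ⟨e, he⟩ := isUnit_iff_exists_inv.1 hu
  refine ⟨e, IsUnit.of_mul_eq_one (u : A) (by rwa [mul_comm]), fun i => ?_⟩
  have hek : (e : K) = ((u : A) : K)⁻¹ :=
    eq_inv_of_mul_eq_one_right (congrArg Subtype.val he)
  obtain ⟨t, htJ, ht⟩ := hN i m (Finset.le_sup (Finset.mem_univ i))
  have htk : ((t : B i) : K) = (x⁻¹) ^ m * (z : K)⁻¹ := ht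
  obtain ⟨v, hv⟩ := isUnit_iff_exists_inv.1 (Ideal.mem_jacobson_bot.1 htJ 1)
  have hzk : (z : K) ≠ 0 := fun h => hz (Subtype.ext h)
  have hvk : (v : K) = ((t : B i) * 1 + 1 : K)⁻¹ := eq_inv_of_mul_eq_one_right (by simpa using congrArg Subtype.val hv)
  have hval : ((t * v : B i) : K) = (e : K) := by
    have hxm : x ^ m * (z : K) ≠ 0 := mul_ne_zero (pow_ne_zero _ hx0) hzk
    rw [Subring.coe_mul, hvk, hek, htk, inv_pow, ← mul_inv, mul_one,
      show ((u : A) : K) = 1 + x ^ m * (z : K) by simp [u]]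
    rw [← mul_inv, inv_inj, mul_add, mul_inv_cancel₀ hxm, mul_one]
  refine ⟨hval ▸ (t * v).2, ?_⟩
  rw [show (⟨(e : K), hval ▸ (t * v).2⟩ : B i) = t * v from Subtype.ext hval.symm]
  exact Ideal.mul_mem_right v _ htJ

end Subrings

end Groth.Agent.VarDim1
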