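import Groth.Agent.VarDim1.Basic
import Groth.Agent.VarDim1.KrullAkizuki
import Mathlib.RingTheory.IntegralClosure.IntegrallyClosed
import Mathlib.RingTheory.Localization.FractionRing
import Mathlib.RingTheory.LocalRing.Basic

universe u

/-! The total ring of fractions of a reduced Noetherian ring, and integral closures in it. -/

namespace Groth.Agent.VarDim1

variable {A : Type u} [CommRing A]

theorem mem_nonZeroDivisors_of_forall_notMem [IsReduced A] {f : A}
    (h : ∀ p ∈ minimalPrimes A, f ∉ p) : f ∈ nonZeroDivisors A := by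
  rw [mem_nonZeroDivisors_iff_right]
  intro b hb
  have : b ∈ nilradical A := by
    rw [nilradical, Ideal.zero_eq_bot, ← Ideal.sInf_minimalPrimes]
    exact Submodule.mem_sInf.2 fun p hp =>
      (hp.1.1.mem_or_mem (show b * f ∈ p by rw [hb]; exact p.zero_mem)).resolve_right (h p hp)
  rwa [nilradical_eq_zero, Ideal.zero_eq_bot, Ideal.mem_bot] at this

theorem isUnit_algebraMap_fractionRing_quotient (p : MinPt A) (s : nonZeroDivisors A) :
    IsUnit (algebraMap A (FractionRing (A ⧸ p.1.asIdeal)) s) := by
  refine IsUnit.mk0 _ fun h => ?_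
  rw [IsScalarTower.algebraMap_apply A (A ⧸ p.1.asIdeal), IsFractionRing.to_map_eq_zero_iff,
    Ideal.Quotient.algebraMap_eq, Ideal.Quotient.eq_zero_iff_mem] at h
  exact Set.disjoint_left.1 (Ideal.disjoint_nonZeroDivisors_of_mem_minimalPrimes p.2) h s.2

variable (A) in
/-- The map of the total ring of fractions to the product of the function fields of the components. -/
noncomputable def toComp : FractionRing A →ₐ[A] (∀ p : MinPt A, FractionRing (A ⧸ p.1.asIdeal)) :=
  AlgHom.pi fun p => IsLocalization.liftAlgHom (M := nonZeroDivisors A) (S := FractionRing A)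
    (f := Algebra.ofId A (FractionRing (A ⧸ p.1.asIdeal)))
    fun s => isUnit_algebraMap_fractionRing_quotient p s

theorem toComp_injective [IsReduced A] : Function.Injective (toComp A) := by
  rw [injective_iff_map_eq_zero]
  intro x hx
  obtain ⟨a, s, rfl⟩ := IsLocalization.exists_mk'_eq (nonZeroDivisors A) x
  suffices a = 0 by rw [this, IsLocalization.mk'_zero]
  have h : toComp A (algebraMap A (FractionRing A) a) = 0 := by
    rw [← IsLocalization.mk'_spec (FractionRing A) a s, map_mul, hx, zero_mul]
  rw [AlgHom.commutes] at h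
  have : a ∈ nilradical A := by
    rw [nilradical, Ideal.zero_eq_bot, ← Ideal.sInf_minimalPrimes]
    refine Submodule.mem_sInf.2 fun p hp => ?_
    have h0 : algebraMap A (FractionRing (A ⧸ p)) a = 0 := congr_fun h ⟨⟨p, hp.1.1⟩, hp⟩
    have := hp.1.1
    rwa [IsScalarTower.algebraMap_apply A (A ⧸ p), IsFractionRing.to_map_eq_zero_iff,
      Ideal.Quotient.algebraMap_eq, Ideal.Quotient.eq_zero_iff_mem] at h0
  rwa [nilradical_eq_zero, Ideal.zero_eq_bot, Ideal.mem_bot] at this

theorem toComp_surjective [IsNoetherianRing A] [IsReduced A] : Function.Surjective (toComp A) := by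
  classical
  cases nonempty_fintype (MinPt A)
  choose e he hne using fun p : MinPt A => exists_notMem_forall_mem_of_ne p.2
  have hzero : ∀ p q : MinPt A, q ≠ p → algebraMap A (FractionRing (A ⧸ q.1.asIdeal)) (e p) = 0 :=
    fun p q h => by
      rw [IsScalarTower.algebraMap_apply A (A ⧸ q.1.asIdeal), IsFractionRing.to_map_eq_zero_iff,
        Ideal.Quotient.algebraMap_eq, Ideal.Quotient.eq_zero_iff_mem]
      exact hne p _ q.2 fun h' => h (Subtype.ext (PrimeSpectrum.ext h'))
  have single : ∀ (p : MinPt A) (z : FractionRing (A ⧸ p.1.asIdeal)),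
      ∃ x, toComp A x = Pi.single p z := by
    intro p z
    obtain ⟨a, ⟨c, hc⟩, rfl⟩ := IsLocalization.exists_mk'_eq (nonZeroDivisors (A ⧸ p.1.asIdeal)) z
    obtain ⟨a, rfl⟩ := Ideal.Quotient.mk_surjective a
    obtain ⟨c, rfl⟩ := Ideal.Quotient.mk_surjective c
    have hcp : c ∉ p.1.asIdeal := fun h =>
      nonZeroDivisors.ne_zero hc (Ideal.Quotient.eq_zero_iff_mem.2 h)
    let d := c * e p + ∑ q ∈ Finset.univ.erase p, e q
    have hd : ∀ r : MinPt A, d ∉ r.1.asIdeal := by
      intro r hr
      by_cases hrp : r = p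
      · subst hrp
        have : c * e r ∈ r.1.asIdeal := by
          have h2 : ∑ q ∈ Finset.univ.erase r, e q ∈ r.1.asIdeal :=
            Ideal.sum_mem _ fun q hq => hne q _ r.2 fun h' =>
              Finset.ne_of_mem_erase hq (Subtype.ext (PrimeSpectrum.ext h')).symm
          simpa [d] using r.1.asIdeal.sub_mem hr h2
        exact (r.1.isPrime.mem_or_mem this).elim hcp (he r)
      · have h1 : c * e p ∈ r.1.asIdeal :=
          Ideal.mul_mem_left _ _ (hne p _ r.2 fun h' => hrp (Subtype.ext (PrimeSpectrum.ext h')))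
        have h2 : ∑ q ∈ (Finset.univ.erase p).erase r, e q ∈ r.1.asIdeal :=
          Ideal.sum_mem _ fun q hq => hne q _ r.2 fun h' =>
            Finset.ne_of_mem_erase hq (Subtype.ext (PrimeSpectrum.ext h')).symm
        have : e r ∈ r.1.asIdeal := by
          have h3 := r.1.asIdeal.sub_mem hr (add_mem h1 h2)
          rwa [show d = c * e p + ∑ q ∈ Finset.univ.erase p, e q from rfl,
            ← Finset.add_sum_erase _ e (Finset.mem_erase.2 ⟨hrp, Finset.mem_univ r⟩),
            show c * e p + (e r + ∑ q ∈ (Finset.univ.erase p).erase r, e q) -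
              (c * e p + ∑ q ∈ (Finset.univ.erase p).erase r, e q) = e r by ring] at h3
        exact he r this
    have hdn : d ∈ nonZeroDivisors A := mem_nonZeroDivisors_of_forall_notMem fun q hq => hd ⟨⟨q, hq.1.1⟩, hq⟩
    refine ⟨IsLocalization.mk' _ (a * e p) ⟨d, hdn⟩, ?_⟩
    ext q
    have key : toComp A (IsLocalization.mk' _ (a * e p) ⟨d, hdn⟩) q *
        algebraMap A (FractionRing (A ⧸ q.1.asIdeal)) d = algebraMap A _ (a * e p) := by
      have h := congr_fun (congrArg (toComp A) (IsLocalization.mk'_spec (FractionRing A) (a * e p) ⟨d, hdn⟩)) q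
      rw [map_mul, AlgHom.commutes, AlgHom.commutes] at h
      exact h
    have hu := isUnit_algebraMap_fractionRing_quotient q ⟨d, hdn⟩
    refine hu.mul_right_cancel (key.trans ?_)
    by_cases hq : q = p
    · subst hq
      have hsum : algebraMap A (FractionRing (A ⧸ q.1.asIdeal)) (∑ r ∈ Finset.univ.erase q, e r) = 0 := by
        rw [map_sum]; exact Finset.sum_eq_zero fun r hr => hzero r q (Finset.ne_of_mem_erase hr).symm
      rw [Pi.single_eq_same, map_add, map_mul, map_mul, hsum, add_zero, ← mul_assoc]
      congr 1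
      exact (IsLocalization.mk'_spec _ (Ideal.Quotient.mk _ a) ⟨Ideal.Quotient.mk _ c, hc⟩).symm
    · rw [Pi.single_eq_of_ne hq, zero_mul, map_mul, hzero p q hq, mul_zero]
  intro v
  choose x hx using fun p => single p (v p)
  exact ⟨∑ p, x p, by rw [map_sum]; simp only [hx]; exact Finset.univ_sum_single v⟩

theorem finite_integralClosure_quotient [IsNoetherianRing A] (p : Ideal A) [p.IsPrime]
    (h : Module.Finite (A ⧸ p) (integralClosure (A ⧸ p) (FractionRing (A ⧸ p)))) :
    Module.Finite A (integralClosure A (FractionRing (A ⧸ p))) := by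
  have : Module.Finite A (integralClosure (A ⧸ p) (FractionRing (A ⧸ p))) :=
    Module.Finite.trans (A ⧸ p) _
  let f : integralClosure A (FractionRing (A ⧸ p)) →ₗ[A] integralClosure (A ⧸ p) (FractionRing (A ⧸ p)) :=
    { toFun := fun x => ⟨x.1, IsIntegral.tower_top (A := A ⧸ p) x.2⟩
      map_add' := fun _ _ => rfl
      map_smul' := fun _ _ => rfl }
  exact Module.Finite.of_injective f fun x y h => Subtype.ext (congrArg Subtype.val h :)

theorem finite_integralClosure [IsNoetherianRing A] [IsReduced A]
    (h : ∀ p ∈ minimalPrimes A, ∀ [p.IsPrime],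
      Module.Finite (A ⧸ p) (integralClosure (A ⧸ p) (FractionRing (A ⧸ p)))) :
    Module.Finite A (integralClosure A (FractionRing A)) := by
  have hp : ∀ p : MinPt A, Module.Finite A (integralClosure A (FractionRing (A ⧸ p.1.asIdeal))) :=
    fun p => finite_integralClosure_quotient _ (h _ p.2)
  let f : integralClosure A (FractionRing A) →ₗ[A]
      (∀ p : MinPt A, integralClosure A (FractionRing (A ⧸ p.1.asIdeal))) :=
    { toFun := fun x p => ⟨toComp A x.1 p,
        IsIntegral.map ((Pi.evalAlgHom A (fun p : MinPt A => FractionRing (A ⧸ p.1.asIdeal)) p).comp (toComp A)) x.2⟩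
      map_add' := fun x y => by ext p; simp
      map_smul' := fun r x => by ext p; simp }
  refine Module.Finite.of_injective f fun x y hxy => Subtype.ext (toComp_injective (funext fun p => ?_))
  exact congrArg Subtype.val (congr_fun hxy p)

theorem deltaLength_lt_top [IsNoetherianRing A] [Ring.KrullDimLE 1 A]
    [Module.Finite A (integralClosure A (FractionRing A))] :
    Module.length A (↥(integralClosure A (FractionRing A)) ⧸
      LinearMap.range (Algebra.linearMap A ↥(integralClosure A (FractionRing A)))) < ⊤ := by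
  classical
  obtain ⟨n, g, hg⟩ := Module.Finite.exists_fin (R := A) (M := integralClosure A (FractionRing A))
  obtain ⟨⟨d, hd⟩, hdg⟩ := IsLocalization.exist_integer_multiples (nonZeroDivisors A) Finset.univ
    (fun i => (g i : FractionRing A))
  set R := LinearMap.range (Algebra.linearMap A ↥(integralClosure A (FractionRing A)))
  refine lt_of_le_of_lt (length_le_of_smul_mem _ (fun i => R.mkQ (g i)) d (fun i => ?_) ?_) ?_
  · obtain ⟨a, ha⟩ := hdg i (Finset.mem_univ i)
    rw [← map_smul, Submodule.mkQ_apply, Submodule.Quotient.mk_eq_zero]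
    exact ⟨a, Subtype.ext ha⟩
  · have : (fun i => R.mkQ (g i)) = ⇑R.mkQ ∘ g := rfl
    rw [this, Set.range_comp, ← Submodule.map_span, hg, Submodule.map_top, Submodule.range_mkQ]
  · exact (WithTop.mul_ne_top (ENat.natCast_ne_top _) (Ring.ord_ne_top hd)).lt_top

section Retract

variable {R C : Type u} [CommRing R] [CommRing C] (f : R →+* C) (hf : Function.Surjective f)
  (ε : R) (hε : ∀ r, f r = 0 → ε * r = 0) (P : Ideal R) [P.IsPrime] (hεP : ε ∉ P)

include hf hε hεP

/-- A ring surjection split by an idempotent outside `P` identifies the localizations at `P`. -/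
theorem nonempty_localization_equiv : ∃ (Q : Ideal C) (_ : Q.IsPrime),
    Nonempty (Localization.AtPrime P ≃+* Localization.AtPrime Q) := by
  have hker : RingHom.ker f ≤ P := fun r hr =>
    (Ideal.IsPrime.mem_or_mem ‹_› (show ε * r ∈ P by rw [hε r hr]; exact P.zero_mem)).resolve_left hεP
  let Q := P.map f
  have hQ : Q.IsPrime := Ideal.map_isPrime_of_surjective hf hker
  have hQc : ∀ r, f r ∈ Q ↔ r ∈ P := fun r => by
    rw [← Ideal.mem_comap, Ideal.comap_map_of_surjective f hf, ← RingHom.ker_eq_comap_bot,
      sup_eq_left.2 hker]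
  let := ((algebraMap C (Localization.AtPrime Q)).comp f).toAlgebra
  have hloc : IsLocalization P.primeCompl (Localization.AtPrime Q) :=
    { map_units := fun r => IsLocalization.map_units (Localization.AtPrime Q)
        (⟨f r, fun h => r.2 ((hQc r.1).1 h)⟩ : Q.primeCompl)
      surj := fun z => by
        obtain ⟨⟨a, b⟩, hab⟩ := IsLocalization.surj Q.primeCompl z
        obtain ⟨a', ha'⟩ := hf a
        obtain ⟨b', hb'⟩ := hf b
        refine ⟨⟨a', ⟨b', fun h => b.2 (hb' ▸ (hQc b').2 h)⟩⟩, ?_⟩
        show z * algebraMap C _ (f b') = algebraMap C _ (f a')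
        rw [ha', hb']; exact hab
      exists_of_eq := fun {x y} h => by
        obtain ⟨t, ht⟩ := (IsLocalization.eq_iff_exists Q.primeCompl (Localization.AtPrime Q)).1 h
        obtain ⟨t', ht'⟩ := hf t
        have htP : t' ∉ P := fun h => t.2 (ht' ▸ (hQc t').2 h)
        refine ⟨⟨ε * t', fun h => (Ideal.IsPrime.mem_or_mem ‹_› h).elim hεP htP⟩, ?_⟩
        have : f (t' * x - t' * y) = 0 := by rw [map_sub, map_mul, map_mul, ht']; exact sub_eq_zero.2 ht
        have h2 := hε _ this
        show ε * t' * x = ε * t' * y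
        rw [← sub_eq_zero, ← h2]; ring }
  exact ⟨Q, hQ, ⟨(IsLocalization.algEquiv P.primeCompl (Localization.AtPrime P) (Localization.AtPrime Q)).toRingEquiv⟩⟩

end Retract

theorem isIntegral_pi_of_forall {ι : Type*} [Finite ι] {F : ι → Type*} [∀ i, CommRing (F i)] [∀ i, Algebra A (F i)]
    (v : ∀ i, F i) (hv : ∀ i, IsIntegral A (v i)) : IsIntegral A v := by
  classical
  cases nonempty_fintype ι
  rw [← Finset.univ_sum_single v]
  refine IsIntegral.sum _ fun i _ => ?_
  obtain ⟨g, hg, hg0⟩ := hv i
  refine ⟨Polynomial.X * g, Polynomial.monic_X.mul hg, ?_⟩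
  rw [← Polynomial.aeval_def, map_mul, Polynomial.aeval_X]
  ext j
  by_cases h : j = i
  · subst h
    have : Pi.evalAlgHom A F j (Polynomial.aeval (Pi.single j (v j)) g) = 0 := by
      rw [← Polynomial.aeval_algHom_apply]; simpa [Polynomial.aeval_def] using hg0
    simp only [Pi.evalAlgHom_apply] at this
    simp [this]
  · simp [h]

theorem isDomain_and_isIntegrallyClosed_localization [IsNoetherianRing A] [IsReduced A]
    (P : Ideal (integralClosure A (FractionRing A))) [P.IsPrime] :
    IsDomain (Localization.AtPrime P) ∧ IsIntegrallyClosed (Localization.AtPrime P) := by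
  classical
  cases nonempty_fintype (MinPt A)
  let S := integralClosure A (FractionRing A)
  have hbij : Function.Bijective (toComp A) := ⟨toComp_injective, toComp_surjective⟩
  let e := AlgEquiv.ofBijective (toComp A) hbij
  have hint : ∀ v : (∀ p : MinPt A, FractionRing (A ⧸ p.1.asIdeal)), (∀ p, IsIntegral A (v p)) →
      IsIntegral A (e.symm v) := fun v hv => (isIntegral_pi_of_forall v hv).map e.symm.toAlgHom
  let ε : MinPt A → S := fun p => ⟨e.symm (Pi.single p 1), hint _ fun q => by
    by_cases h : q = p
    · subst h; rw [Pi.single_eq_same]; exact isIntegral_one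
    · rw [Pi.single_eq_of_ne h]; exact isIntegral_zero⟩
  have hsum : ∑ p, ε p = 1 := Subtype.ext (by
    have : ((∑ p, ε p : S) : FractionRing A) = ∑ p, e.symm (Pi.single p 1) := by simp [ε]
    rw [this, ← map_sum, show (∑ p : MinPt A, Pi.single p 1 :
      ∀ p : MinPt A, FractionRing (A ⧸ p.1.asIdeal)) = 1 from Finset.univ_sum_single 1, map_one]
    rfl)
  obtain ⟨p, hp⟩ : ∃ p, ε p ∉ P := by
    by_contra h
    push Not at h
    exact Ideal.IsPrime.ne_top ‹_› ((Ideal.eq_top_iff_one _).2 (hsum ▸ Ideal.sum_mem _ fun p _ => h p))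
  let C := integralClosure A (FractionRing (A ⧸ p.1.asIdeal))
  let π := (Pi.evalAlgHom A (fun p : MinPt A => FractionRing (A ⧸ p.1.asIdeal)) p).comp e.toAlgHom
  let f : S →+* C := ((π.comp S.val).codRestrict C fun x => x.2.map π).toRingHom
  have hf : Function.Surjective f := fun c => by
    refine ⟨⟨e.symm (Pi.single p c.1), hint _ fun q => ?_⟩, Subtype.ext ?_⟩
    · by_cases h : q = p
      · subst h; rw [Pi.single_eq_same]; exact c.2
      · rw [Pi.single_eq_of_ne h]; exact isIntegral_zero
    · show e (e.symm (Pi.single p c.1)) p = c.1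
      rw [AlgEquiv.apply_symm_apply, Pi.single_eq_same]
  have hε : ∀ r, f r = 0 → ε p * r = 0 := fun r hr => by
    have hr' : e r.1 p = 0 := congrArg Subtype.val hr
    refine Subtype.ext (e.injective ?_)
    show e (e.symm (Pi.single p 1) * r.1) = e 0
    rw [map_mul, AlgEquiv.apply_symm_apply, map_zero]
    ext q
    by_cases h : q = p
    · subst h; simp [hr']
    · simp [h]
  obtain ⟨Q, hQ, ⟨eQ⟩⟩ := nonempty_localization_equiv f hf (ε p) hε P hp
  have : IsFractionRing C (FractionRing (A ⧸ p.1.asIdeal)) := by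
    refine IsFractionRing.of_field _ _ fun z => ?_
    obtain ⟨a, ⟨c, hc⟩, rfl⟩ := IsLocalization.exists_mk'_eq (nonZeroDivisors (A ⧸ p.1.asIdeal)) z
    obtain ⟨a, rfl⟩ := Ideal.Quotient.mk_surjective a
    obtain ⟨c, rfl⟩ := Ideal.Quotient.mk_surjective c
    exact ⟨algebraMap A C a, algebraMap A C c, by rw [IsFractionRing.mk'_eq_div]; rfl⟩
  have : IsIntegrallyClosed C := (isIntegrallyClosed_iff (FractionRing (A ⧸ p.1.asIdeal))).2
    fun {x} hx => ⟨⟨x, isIntegral_trans x hx⟩, rfl⟩
  have : IsDomain (Localization.AtPrime Q) := inferInstance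
  have : IsIntegrallyClosed (Localization.AtPrime Q) :=
    isIntegrallyClosed_of_isLocalization _ Q.primeCompl Q.primeCompl_le_nonZeroDivisors
  exact ⟨eQ.toMulEquiv.isDomain _, IsIntegrallyClosed.of_equiv eQ.symm⟩

theorem bijective_of_length_eq_zero [IsReduced A]
    (h : Module.length A (↥(integralClosure A (FractionRing A)) ⧸
      LinearMap.range (Algebra.linearMap A ↥(integralClosure A (FractionRing A)))) = 0) :
    Function.Bijective (algebraMap A (integralClosure A (FractionRing A))) := by
  refine ⟨fun a b hab => IsFractionRing.injective A (FractionRing A) (congrArg Subtype.val hab), fun x => ?_⟩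
  rw [Module.length_eq_zero_iff, Submodule.Quotient.subsingleton_iff] at h
  exact (LinearMap.mem_range.1 (h ▸ Submodule.mem_top (x := x)) :)

theorem isDomain_and_isIntegrallyClosed_of_bijective [IsLocalRing A] [IsNoetherianRing A] [IsReduced A]
    (h : Function.Bijective (algebraMap A (integralClosure A (FractionRing A)))) :
    IsDomain A ∧ IsIntegrallyClosed A := by
  let S := integralClosure A (FractionRing A)
  let e := RingEquiv.ofBijective _ h
  have : Nontrivial S := e.symm.toEquiv.nontrivial
  have : IsLocalRing S := e.isLocalRing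
  obtain ⟨h1, h2⟩ := isDomain_and_isIntegrallyClosed_localization (IsLocalRing.maximalIdeal S)
  have : IsLocalization (IsLocalRing.maximalIdeal S).primeCompl S :=
    IsLocalization.of_le_isUnit fun x hx => by simpa [Ideal.primeCompl, mem_nonunits_iff, IsUnit.mem_submonoid_iff] using hx
  let eL := (IsLocalization.algEquiv (IsLocalRing.maximalIdeal S).primeCompl S
    (Localization.AtPrime (IsLocalRing.maximalIdeal S))).toRingEquiv
  refine ⟨(e.trans eL).toMulEquiv.isDomain _, ?_⟩
  exact IsIntegrallyClosed.of_equiv (R := Localization.AtPrime (IsLocalRing.maximalIdeal S)) (e.trans eL).symm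

end Groth.Agent.VarDim1
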