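import Mathlib.RingTheory.Ideal.MinimalPrime.Basic
import Mathlib.RingTheory.Ideal.MinimalPrime.Localization
import Mathlib.RingTheory.Ideal.MinimalPrime.Noetherian
import Mathlib.RingTheory.KrullDimension.Basic
import Mathlib.RingTheory.Ideal.Height
import Mathlib.RingTheory.KrullDimension.Zero
import Mathlib.RingTheory.Localization.AtPrime.Basic
import Mathlib.RingTheory.Noetherian.Basic
import Mathlib.RingTheory.Finiteness.Ideal
import Mathlib.Algebra.Ring.GeomSum

universe u

namespace Groth.Agent.VarDim1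

variable {A : Type u} [CommRing A]

theorem exists_lift_notMem (I : Ideal A) (s : Finset (Ideal A)) (hs : ∀ p ∈ s, p.IsPrime)
    (hI : ∀ p ∈ s, ¬ I ≤ p) (a : A) : ∃ b ∈ I, ∀ p ∈ s, a + b ∉ p := by
  classical
  let M := s.filter (fun p => a ∈ p)
  let T := s.filter (fun q => a ∉ q ∧ ∀ p ∈ M, ¬ q ≤ p)
  let J := I ⊓ T.inf id
  have hJ : ¬ (J : Set A) ⊆ ⋃ p ∈ (M : Set (Ideal A)), p := by
    intro h
    obtain ⟨p, hp, hle⟩ :=
      (Ideal.subset_union_prime ⊥ ⊥ (fun p hp _ _ => hs p (Finset.mem_filter.1 hp).1)).1 h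
    have hpp := hs p (Finset.mem_filter.1 hp).1
    rcases hpp.inf_le.1 hle with h1 | h2
    · exact hI p (Finset.mem_filter.1 hp).1 h1
    · obtain ⟨q, hq, hqp⟩ := (hpp.inf_le' (f := id)).1 h2
      exact (Finset.mem_filter.1 hq).2.2 p hp hqp
  obtain ⟨b, hbJ, hb⟩ := Set.not_subset.1 hJ
  simp only [Set.mem_iUnion, not_exists, SetLike.mem_coe] at hb
  refine ⟨b, hbJ.1, fun q hq hmem => ?_⟩
  by_cases haq : a ∈ q
  · exact hb q (Finset.mem_filter.2 ⟨hq, haq⟩) (by simpa using q.sub_mem hmem haq)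
  · by_cases hqM : ∃ p ∈ M, q ≤ p
    · obtain ⟨p, hp, hqp⟩ := hqM
      exact hb p hp (by simpa using p.sub_mem (hqp hmem) (Finset.mem_filter.1 hp).2)
    · push Not at hqM
      have : b ∈ q := (Finset.inf_le (f := id) (Finset.mem_filter.2 ⟨hq, haq, hqM⟩)) hbJ.2
      exact haq (by simpa using q.sub_mem hmem this)

theorem exists_mem_notMem_of_not_le (I : Ideal A) (s : Finset (Ideal A)) (hs : ∀ p ∈ s, p.IsPrime)
    (hI : ∀ p ∈ s, ¬ I ≤ p) : ∃ b ∈ I, ∀ p ∈ s, b ∉ p := by
  simpa using exists_lift_notMem I s hs hI 0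

section Local

variable [IsLocalRing A]

theorem maximalIdeal_notMem_minimalPrimes (hdim : ringKrullDim A = 1) :
    IsLocalRing.maximalIdeal A ∉ minimalPrimes A := by
  intro h
  rw [← IsLocalRing.maximalIdeal_height_eq_ringKrullDim] at hdim
  rw [Ideal.height_eq_zero_iff.2 h] at hdim
  simp at hdim

theorem eq_maximalIdeal_or_mem_minimalPrimes (hdim : ringKrullDim A = 1) (q : Ideal A)
    [q.IsPrime] : q = IsLocalRing.maximalIdeal A ∨ q ∈ minimalPrimes A := by
  by_contra h
  push Not at h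
  obtain ⟨p, hp, hpq⟩ := Ideal.exists_minimalPrimes_le (bot_le : (⊥ : Ideal A) ≤ q)
  have : p.IsPrime := hp.1.1
  have hlt : p < q := lt_of_le_of_ne hpq (fun e => h.2 (e ▸ hp))
  have hlt2 : q < IsLocalRing.maximalIdeal A :=
    lt_of_le_of_ne (IsLocalRing.le_maximalIdeal (Ideal.IsPrime.ne_top ‹_›)) h.1
  have h1 := Ideal.height_add_one_le_of_lt_of_isPrime hlt
  have h2 := Ideal.height_add_one_le_of_lt_of_isPrime hlt2
  have h3 : (IsLocalRing.maximalIdeal A).height = 1 := by
    have := IsLocalRing.maximalIdeal_height_eq_ringKrullDim (R := A)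
    rw [hdim] at this
    exact_mod_cast this
  have h4 : (1 : ℕ∞) ≤ q.height := le_trans le_add_self h1
  rw [h3] at h2
  have h5 : (1 : ℕ∞) + 1 ≤ 1 := le_trans (add_le_add h4 le_rfl) h2
  exact absurd h5 (by decide)

theorem maximalIdeal_le_radical (hdim : ringKrullDim A = 1) (I : Ideal A)
    (hI : ∀ p ∈ minimalPrimes A, ¬ I ≤ p) : IsLocalRing.maximalIdeal A ≤ I.radical := by
  rw [Ideal.radical_eq_sInf]
  refine le_sInf fun q ⟨hIq, hq⟩ => ?_
  rcases eq_maximalIdeal_or_mem_minimalPrimes hdim q with h | h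
  · exact h.ge
  · exact absurd hIq (hI q h)

theorem exists_maximalIdeal_pow_le [IsNoetherianRing A] (hdim : ringKrullDim A = 1) (I : Ideal A)
    (hI : ∀ p ∈ minimalPrimes A, ¬ I ≤ p) : ∃ n : ℕ, IsLocalRing.maximalIdeal A ^ n ≤ I :=
  Ideal.exists_pow_le_of_le_radical_of_fg (maximalIdeal_le_radical hdim I hI) (IsNoetherian.noetherian _)

theorem maximalIdeal_eq_radical_span_singleton_iff (hdim : ringKrullDim A = 1) {f : A}
    (hf : f ∈ IsLocalRing.maximalIdeal A) :
    IsLocalRing.maximalIdeal A = (Ideal.span {f}).radical ↔ ∀ p ∈ minimalPrimes A, f ∉ p := by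
  constructor
  · intro h p hp hfp
    have : p.IsPrime := hp.1.1
    have hle : IsLocalRing.maximalIdeal A ≤ p := h ▸ (this.radical_le_iff.2 (by simpa [Ideal.span_le]))
    exact maximalIdeal_notMem_minimalPrimes hdim
      (le_antisymm hle (IsLocalRing.le_maximalIdeal this.ne_top) ▸ hp)
  · intro h
    refine le_antisymm (maximalIdeal_le_radical hdim _ fun p hp hle => h p hp (hle (Ideal.mem_span_singleton_self f))) ?_
    refine (Ideal.IsMaximal.isPrime' _).radical_le_iff.2 ?_
    simpa [Ideal.span_le]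

end Local

/-- An element in all minimal primes but `p` which is not in `p`. -/
theorem exists_notMem_forall_mem_of_ne [IsNoetherianRing A] {p : Ideal A} (hp : p ∈ minimalPrimes A) :
    ∃ e : A, e ∉ p ∧ ∀ q ∈ minimalPrimes A, q ≠ p → e ∈ q := by
  classical
  have hfin := minimalPrimes.finite_of_isNoetherianRing A
  let T := hfin.toFinset.erase p
  have hpp : p.IsPrime := hp.1.1
  have : ¬ T.inf id ≤ p := fun h => by
    obtain ⟨q, hq, hqp⟩ := (hpp.inf_le' (f := id)).1 h
    simp only [T, Finset.mem_erase, Set.Finite.mem_toFinset] at hq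
    exact hq.1 (le_antisymm hqp (hp.2 hq.2.1 hqp))
  obtain ⟨e, he, hep⟩ := SetLike.not_le_iff_exists.1 this
  refine ⟨e, hep, fun q hq hne => (Finset.inf_le (f := id) (b := q) ?_) he⟩
  simp [T, hne, hq]

section Prod

variable (A)

abbrev MinPt := {p : PrimeSpectrum A // p.asIdeal ∈ minimalPrimes A}

variable {A}

instance [IsNoetherianRing A] : Finite (MinPt A) :=
  have := (minimalPrimes.finite_of_isNoetherianRing A).to_subtype
  Finite.of_injective (fun p => (⟨p.1.asIdeal, p.2⟩ : minimalPrimes A))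
    fun _ _ h => Subtype.ext (PrimeSpectrum.ext (congrArg Subtype.val h))

theorem isNilpotent_algebraMap_atPrime (p : MinPt A) {e : A} (he : e ∈ p.1.asIdeal) :
    IsNilpotent (algebraMap A (Localization.AtPrime p.1.asIdeal) e) := by
  rw [← mem_nilradical, nilradical, Ideal.zero_eq_bot, ← Ideal.map_bot (f := algebraMap A (Localization.AtPrime p.1.asIdeal)),
    IsLocalization.AtPrime.radical_map_of_mem_minimalPrimes (Localization.AtPrime p.1.asIdeal) p.1.asIdeal ⊥ p.2]
  exact Ideal.mem_map_of_mem _ he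

theorem exists_mul_mem_range [IsNoetherianRing A]
    (x : ∀ p : MinPt A, Localization.AtPrime p.1.asIdeal) (p : MinPt A) :
    ∃ b : A, b ∉ p.1.asIdeal ∧
      algebraMap A (∀ p : MinPt A, Localization.AtPrime p.1.asIdeal) b * x ∈
        (algebraMap A (∀ p : MinPt A, Localization.AtPrime p.1.asIdeal)).range := by
  classical
  cases nonempty_fintype (MinPt A)
  obtain ⟨⟨y, s⟩, hys⟩ := IsLocalization.surj p.1.asIdeal.primeCompl (x p)
  obtain ⟨e, hep, he⟩ := exists_notMem_forall_mem_of_ne p.2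
  have hnil : ∀ q : MinPt A, q ≠ p → ∃ n, algebraMap A (Localization.AtPrime q.1.asIdeal) e ^ n = 0 :=
    fun q hq => isNilpotent_algebraMap_atPrime q (he _ q.2 fun h => hq (Subtype.ext (PrimeSpectrum.ext h)))
  choose! n hn using hnil
  let N := Finset.univ.sup n
  have hz : ∀ q : MinPt A, q ≠ p → algebraMap A (Localization.AtPrime q.1.asIdeal) e ^ N = 0 :=
    fun q hq => pow_eq_zero_of_le (Finset.le_sup (Finset.mem_univ q)) (hn q hq)
  refine ⟨e ^ N * s, fun h => ?_, e ^ N * y, ?_⟩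
  · rcases p.1.isPrime.mem_or_mem h with h | h
    · exact hep (p.1.isPrime.mem_of_pow_mem _ h)
    · exact s.2 h
  · ext q
    by_cases hq : q = p
    · subst hq
      simp only [Pi.algebraMap_apply, Pi.mul_apply, map_mul]
      rw [mul_assoc, mul_comm (algebraMap A _ (s : A)), hys]
    · simp [hz q hq]

theorem exists_notMem_smul_eq_zero {b : A}
    (hb : algebraMap A (∀ p : MinPt A, Localization.AtPrime p.1.asIdeal) b = 0) (p : MinPt A) :
    ∃ s : A, s ∉ p.1.asIdeal ∧ s * b = 0 := by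
  obtain ⟨s, hs⟩ := (IsLocalization.map_eq_zero_iff p.1.asIdeal.primeCompl
    (Localization.AtPrime p.1.asIdeal) b).1 (congr_fun hb p)
  exact ⟨s, s.2, hs⟩

variable [IsLocalRing A] [IsNoetherianRing A]

theorem exists_maximalIdeal_pow_mul_mem_range (hdim : ringKrullDim A = 1)
    (x : ∀ p : MinPt A, Localization.AtPrime p.1.asIdeal) :
    ∃ n : ℕ, ∀ b ∈ IsLocalRing.maximalIdeal A ^ n,
      algebraMap A (∀ p : MinPt A, Localization.AtPrime p.1.asIdeal) b * x ∈
        (algebraMap A (∀ p : MinPt A, Localization.AtPrime p.1.asIdeal)).range := by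
  let J : Ideal A := Submodule.comap
    ((LinearMap.toSpanSingleton A (∀ p : MinPt A, Localization.AtPrime p.1.asIdeal) x))
    (LinearMap.range (Algebra.linearMap A (∀ p : MinPt A, Localization.AtPrime p.1.asIdeal)))
  have hJ : ∀ b : A, b ∈ J ↔ algebraMap A (∀ p : MinPt A, Localization.AtPrime p.1.asIdeal) b * x ∈
        (algebraMap A (∀ p : MinPt A, Localization.AtPrime p.1.asIdeal)).range := by
    intro b; simp [J, Algebra.smul_def]
  obtain ⟨n, hn⟩ := exists_maximalIdeal_pow_le hdim J fun q hq hle => by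
    obtain ⟨b, hb, hbx⟩ := exists_mul_mem_range x ⟨⟨q, hq.1.1⟩, hq⟩
    exact hb (hle ((hJ b).2 hbx))
  exact ⟨n, fun b hb => (hJ b).1 (hn hb)⟩

theorem exists_maximalIdeal_pow_mul_eq_zero (hdim : ringKrullDim A = 1) {b : A}
    (hb : algebraMap A (∀ p : MinPt A, Localization.AtPrime p.1.asIdeal) b = 0) :
    ∃ n : ℕ, ∀ c ∈ IsLocalRing.maximalIdeal A ^ n, c * b = 0 := by
  obtain ⟨n, hn⟩ := exists_maximalIdeal_pow_le hdim (Submodule.comap
    (LinearMap.toSpanSingleton A A b) (⊥ : Ideal A)) fun q hq hle => by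
    obtain ⟨s, hs, hsb⟩ := exists_notMem_smul_eq_zero hb ⟨⟨q, hq.1.1⟩, hq⟩
    exact hs (hle (by simpa using hsb))
  exact ⟨n, fun c hc => by simpa using hn hc⟩

omit [IsLocalRing A] [IsNoetherianRing A] in
theorem isUnit_algebraMap_pi_iff (f : A) :
    IsUnit (algebraMap A (∀ p : MinPt A, Localization.AtPrime p.1.asIdeal) f) ↔
      ∀ p ∈ minimalPrimes A, f ∉ p := by
  constructor
  · intro h p hp
    have : p.IsPrime := hp.1.1
    exact (IsLocalization.AtPrime.isUnit_to_map_iff (Localization.AtPrime p) p f).1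
      (h.map (Pi.evalRingHom (fun p : MinPt A => Localization.AtPrime p.1.asIdeal) ⟨⟨p, hp.1.1⟩, hp⟩))
  · intro h
    rw [isUnit_iff_exists_inv]
    have H : ∀ q : MinPt A, ∃ b, algebraMap A (Localization.AtPrime q.1.asIdeal) f * b = 1 := fun q =>
      isUnit_iff_exists_inv.1 ((IsLocalization.AtPrime.isUnit_to_map_iff _ q.1.asIdeal f).2 (h _ q.2))
    choose b hb using H
    exact ⟨b, funext hb⟩

theorem isLocalization_away_pi (hdim : ringKrullDim A = 1) {f : A}
    (hf : f ∈ IsLocalRing.maximalIdeal A) (h : ∀ p ∈ minimalPrimes A, f ∉ p) :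
    IsLocalization.Away f (∀ p : MinPt A, Localization.AtPrime p.1.asIdeal) := by
  refine IsLocalization.Away.mk f ((isUnit_algebraMap_pi_iff f).2 h) (fun x => ?_) (fun a b hab => ?_)
  · obtain ⟨n, hn⟩ := exists_maximalIdeal_pow_mul_mem_range hdim x
    obtain ⟨a, ha⟩ := hn _ (Ideal.pow_mem_pow hf n)
    exact ⟨n, a, by rw [ha, map_pow, mul_comm]⟩
  · obtain ⟨n, hn⟩ := exists_maximalIdeal_pow_mul_eq_zero hdim (b := a - b) (by rw [map_sub, hab, sub_self])
    exact ⟨n, by simpa [mul_sub, sub_eq_zero] using hn _ (Ideal.pow_mem_pow hf n)⟩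

end Prod

end Groth.Agent.VarDim1
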