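import Groth.Agent.VarDim1.Semilocal
import Mathlib.AlgebraicGeometry.OpenImmersion
import Mathlib.AlgebraicGeometry.AffineScheme
import Mathlib.Algebra.Category.Ring.Constructions
import Mathlib.RingTheory.Localization.Finiteness
import Mathlib.RingTheory.DiscreteValuationRing.TFAE

universe u

open CategoryTheory AlgebraicGeometry

namespace Groth.Agent.VarDim1

variable {K : Type u} [Field K]

/-- A subring containing `A` as an `A`-subalgebra of `K`. -/
def subalgebraOfLE (A R : Subring K) (h : A ≤ R) : Subalgebra A K where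
  toSubsemiring := R.toSubsemiring
  algebraMap_mem' a := h a.2

theorem isNoetherianRing_of_le (A R : Subring K) [IsFractionRing A K] [IsNoetherianRing A]
    (hdim : ringKrullDim A = 1) (h : A ≤ R) : IsNoetherianRing R :=
  have := krullDimLE_one_of_eq hdim
  isNoetherianRing_subalgebra (A := A) K (subalgebraOfLE A R h)

theorem eq_top_of_forall_inv (A O : Subring K) [IsFractionRing A K] (h : A ≤ O)
    (hinv : ∀ a : A, a ≠ 0 → (a : K)⁻¹ ∈ O) : O = ⊤ := by
  refine eq_top_iff.2 fun x _ => ?_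
  obtain ⟨a, ⟨c, hc⟩, rfl⟩ := IsLocalization.exists_mk'_eq (nonZeroDivisors A) x
  rw [IsFractionRing.mk'_eq_div, div_eq_mul_inv]
  exact O.mul_mem (h a.2) (hinv c (nonZeroDivisors.ne_zero hc))

theorem isDiscreteValuationRing_of_le (A : Subring K) [IsFractionRing A K] [IsNoetherianRing A]
    (hdim : ringKrullDim A = 1) (O : ValuationSubring K) (h : A ≤ O.toSubring) (hO : O ≠ ⊤) :
    IsDiscreteValuationRing O := by
  have : IsNoetherianRing O := isNoetherianRing_of_le A O.toSubring hdim h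
  have hnf : ¬ IsField O := by
    intro hf
    refine hO (eq_top_iff.2 fun x _ => ?_)
    refine (eq_top_of_forall_inv A O.toSubring h fun a ha => ?_).ge (Subring.mem_top x)
    obtain ⟨b, hb⟩ := hf.mul_inv_cancel (a := (⟨a, h a.2⟩ : O)) (fun e => ha (Subtype.ext (show (a : K) = ((0 : A) : K) from congrArg (fun z : O => (z : K)) e)))
    rw [show (a : K)⁻¹ = b from (eq_inv_of_mul_eq_one_right (congrArg Subtype.val hb)).symm]
    exact b.2
  have htfae : IsDiscreteValuationRing O ↔ ValuationRing O := (IsDiscreteValuationRing.TFAE O hnf).out 0 1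
  exact htfae.2 inferInstance

theorem exists_dvr_of_sup_ne_top (A B : Subring K) [IsFractionRing A K] [IsNoetherianRing A]
    (hdim : ringKrullDim A = 1) (h : A ⊔ B ≠ ⊤) :
    ∃ O : ValuationSubring K, IsDiscreteValuationRing O ∧ A ≤ O.toSubring ∧ B ≤ O.toSubring := by
  let C := A ⊔ B
  have hC : ¬ IsField C := by
    intro hf
    refine h (eq_top_of_forall_inv A C le_sup_left fun a ha => ?_)
    obtain ⟨b, hb⟩ := hf.mul_inv_cancel (a := (⟨a, (le_sup_left : A ≤ C) a.2⟩ : C)) (fun e => ha (Subtype.ext (show (a : K) = ((0 : A) : K) from congrArg (fun z : C => (z : K)) e)))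
    rw [show (a : K)⁻¹ = b from (eq_inv_of_mul_eq_one_right (congrArg Subtype.val hb)).symm]
    exact b.2
  obtain ⟨P, hP⟩ := Ideal.exists_maximal C
  obtain ⟨p, hp, hp0⟩ := Submodule.exists_mem_ne_zero_of_ne_bot (Ring.ne_bot_of_isMaximal_of_not_isField hP hC)
  obtain ⟨V, hV, hPV⟩ := Ideal.image_subset_nonunits_valuationSubring (A := C) P hP.ne_top
  refine ⟨V, isDiscreteValuationRing_of_le A hdim V ((le_sup_left : A ≤ C).trans hV) ?_,
    (le_sup_left : A ≤ C).trans hV, (le_sup_right : B ≤ C).trans hV⟩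
  intro hT
  rcases V.mem_nonunits_iff_or.1 (hPV ⟨p, hp, rfl⟩) with h0 | h0
  · exact hp0 (Subtype.ext h0)
  · exact h0 (hT ▸ ValuationSubring.mem_top _)

theorem ne_top_of_isDiscreteValuationRing (O : ValuationSubring K) [IsDiscreteValuationRing O] :
    O.toSubring ≠ ⊤ := by
  intro h
  refine IsDiscreteValuationRing.not_isField O ?_
  refine ⟨⟨0, 1, zero_ne_one⟩, mul_comm, fun {a} ha => ?_⟩
  exact ⟨⟨(a : K)⁻¹, show (a : K)⁻¹ ∈ O.toSubring from h ▸ Subring.mem_top _⟩,
    Subtype.ext (mul_inv_cancel₀ fun e => ha (Subtype.ext e))⟩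

theorem sup_eq_top_of_not_le (A : Subring K) [IsFractionRing A K] [IsNoetherianRing A]
    (hdim : ringKrullDim A = 1) (O : ValuationSubring K) [IsDiscreteValuationRing O]
    (h : ¬ A ≤ O.toSubring) : A ⊔ O.toSubring = ⊤ := by
  by_contra hne
  obtain ⟨V, hV, hAV, hOV⟩ := exists_dvr_of_sup_ne_top A O.toSubring hdim hne
  refine h fun a ha => ?_
  by_contra hno
  have hne' : O ≠ V := fun e => hno (e ▸ hAV ha)
  exact ne_top_of_isDiscreteValuationRing V (by
    rw [ValuationSubring.eq_of_lt (A := O) (B := V) (lt_of_le_of_ne hOV hne')]; rfl)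

variable {ι : Type} [Finite ι] (A : ι → Subring K)
  [∀ i, IsNoetherianRing (A i)] [∀ i, IsFractionRing (A i) K]

theorem exists_glue_elements (hdim : ∀ i, ringKrullDim (A i) = 1) (hsl : ∀ i, Finite (MaximalSpectrum (A i)))
    (hgen : ∀ i j, i ≠ j → A i ⊔ A j = ⊤) :
    ∃ e : ι → (⨅ i, A i : Subring K),
      (∀ i, IsUnit (Subring.inclusion (iInf_le A i) (e i))) ∧
      (∀ i j, j ≠ i → Subring.inclusion (iInf_le A j) (e i) ∈ (⊥ : Ideal (A j)).jacobson) ∧
      (∀ i, letI := (Subring.inclusion (iInf_le A i)).toAlgebra; IsLocalization.Away (e i) (A i)) ∧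
      (∀ i j, j ≠ i → ∀ k : K, ∃ N, ∀ n, N ≤ n → (e i : K) ^ n * k ∈ A j) := by
  classical
  have key : ∀ i, ∃ e : A i, IsUnit e ∧ ∀ j : {j // j ≠ i}, ∃ he : (e : K) ∈ A j,
      (⟨e, he⟩ : A j) ∈ (⊥ : Ideal (A j)).jacobson := fun i => by
    have := hsl i
    exact exists_isUnit_mem_jacobson (A i) (hdim i) (fun j : {j // j ≠ i} => A j)
      (fun j => hdim j) (fun j => hsl j) (fun j => hgen i j (Ne.symm j.2))
  choose e heu heB heJ using key
  have hmem : ∀ i, (e i : K) ∈ ⨅ j, A j := fun i => Subring.mem_iInf.2 fun j => by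
    by_cases hji : j = i
    · exact hji ▸ (e i).2
    · exact heB i ⟨j, hji⟩
  let e' : ι → (⨅ i, A i : Subring K) := fun i => ⟨e i, hmem i⟩
  have hpow : ∀ i j, j ≠ i → ∀ k : K, ∃ N, ∀ n, N ≤ n → (e i : K) ^ n * k ∈ A j := fun i j hji k => by
    have := krullDimLE_one_of_eq (hdim j)
    obtain ⟨N, hN⟩ := exists_forall_pow_mul_mem (heJ i ⟨j, hji⟩) k
    refine ⟨N, fun n hn => ?_⟩
    obtain ⟨b, -, hb⟩ := hN n hn
    show (algebraMap (A j) K ⟨e i, heB i ⟨j, hji⟩⟩) ^ n * k ∈ A j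
    rw [← hb]; exact b.2
  refine ⟨e', fun i => ?_, fun i j hji => heJ i ⟨j, hji⟩, fun i => ?_, hpow⟩
  · exact heu i
  · let := (Subring.inclusion (iInf_le A i)).toAlgebra
    refine IsLocalization.Away.mk (e' i) (heu i) (fun a => ?_) fun a b hab => ?_
    · cases nonempty_fintype ι
      have : ∀ j, ∃ N, ∀ n, N ≤ n → (e i : K) ^ n * (a : K) ∈ A j := fun j => by
        by_cases hji : j = i
        · subst hji; exact ⟨0, fun n _ => (A j).mul_mem ((A j).pow_mem (e j).2 n) a.2⟩
        · exact hpow i j hji a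
      choose N hN using this
      refine ⟨Finset.univ.sup N, ⟨(e i : K) ^ (Finset.univ.sup N) * a,
        Subring.mem_iInf.2 fun j => hN j _ (Finset.le_sup (Finset.mem_univ j))⟩, Subtype.ext ?_⟩
      show (a : K) * (e i : K) ^ (Finset.univ.sup N) = (e i : K) ^ (Finset.univ.sup N) * a
      ring
    · exact ⟨0, by rw [pow_zero, one_mul, one_mul]; exact Subtype.ext (show (a : K) = b from congrArg (fun z : A i => (z : K)) hab)⟩

theorem range_specMap_eq {R S : Type u} [CommRing R] [CommRing S] [Algebra R S] (f : R) [IsLocalization.Away f S] :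
    Set.range (Spec.map (CommRingCat.ofHom (algebraMap R S))).base = {p : PrimeSpectrum R | f ∉ p.asIdeal} :=
  PrimeSpectrum.localization_away_comap_range S f

theorem isOpenImmersion_of_glue (hdim : ∀ i, ringKrullDim (A i) = 1) (hsl : ∀ i, Finite (MaximalSpectrum (A i)))
    (hgen : ∀ i j, i ≠ j → A i ⊔ A j = ⊤) :
    ∀ i, IsOpenImmersion (Spec.map (CommRingCat.ofHom (Subring.inclusion (iInf_le A i)))) := by
  obtain ⟨e, -, -, hloc, -⟩ := exists_glue_elements A hdim hsl hgen
  intro i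
  let := (Subring.inclusion (iInf_le A i)).toAlgebra
  have := hloc i
  exact IsOpenImmersion.of_isLocalization (e i)

omit [∀ i, IsNoetherianRing (A i)] [∀ i, IsFractionRing (A i) K] in
theorem span_range_eq_top [Nonempty ι] (e : ι → (⨅ i, A i : Subring K))
    (hu : ∀ i, IsUnit (Subring.inclusion (iInf_le A i) (e i)))
    (hJ : ∀ i j, j ≠ i → Subring.inclusion (iInf_le A j) (e i) ∈ (⊥ : Ideal (A j)).jacobson) :
    Ideal.span (Set.range e) = ⊤ := by
  classical
  cases nonempty_fintype ι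
  refine Ideal.eq_top_of_isUnit_mem _ (Ideal.sum_mem _ fun i (_ : i ∈ Finset.univ) => Ideal.subset_span ⟨i, rfl⟩) ?_
  have key : ∀ j, IsUnit (Subring.inclusion (iInf_le A j) (∑ i, e i)) := fun j => by
    rw [map_sum, ← Finset.add_sum_erase _ _ (Finset.mem_univ j)]
    obtain ⟨v, hv⟩ := hu j
    have hs : ∑ i ∈ Finset.univ.erase j, Subring.inclusion (iInf_le A j) (e i) ∈ (⊥ : Ideal (A j)).jacobson :=
      Ideal.sum_mem _ fun i hi => hJ i j (Ne.symm (Finset.ne_of_mem_erase hi))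
    rw [← hv, show (v : A j) + _ = v * (_ * (v⁻¹ : (A j)ˣ) + 1) by rw [mul_add, mul_one, mul_comm _ (v⁻¹ : (A j)ˣ).val, ← mul_assoc, Units.mul_inv, one_mul, add_comm]]
    exact v.isUnit.mul (Ideal.mem_jacobson_bot.1 hs _)
  obtain ⟨j₀⟩ := ‹Nonempty ι›
  have hinv : ∀ j, ((∑ i, e i : (⨅ i, A i : Subring K)) : K)⁻¹ ∈ A j ∧ ((∑ i, e i : (⨅ i, A i : Subring K)) : K) ≠ 0 := fun j => by
    obtain ⟨b, hb⟩ := isUnit_iff_exists_inv.1 (key j)
    have hb' : ((∑ i, e i : (⨅ i, A i : Subring K)) : K) * (b : K) = 1 := congrArg Subtype.val hb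
    exact ⟨(eq_inv_of_mul_eq_one_right hb') ▸ b.2, left_ne_zero_of_mul_eq_one hb'⟩
  exact IsUnit.of_mul_eq_one ⟨_, Subring.mem_iInf.2 fun j => (hinv j).1⟩ (Subtype.ext (mul_inv_cancel₀ (hinv j₀).2))

theorem iUnion_range_eq_univ [Nonempty ι] (hdim : ∀ i, ringKrullDim (A i) = 1) (hsl : ∀ i, Finite (MaximalSpectrum (A i)))
    (hgen : ∀ i j, i ≠ j → A i ⊔ A j = ⊤) :
    (⋃ i, Set.range (Spec.map (CommRingCat.ofHom (Subring.inclusion (iInf_le A i)))).base) = Set.univ := by
  obtain ⟨e, hu, hJ, hloc, -⟩ := exists_glue_elements A hdim hsl hgen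
  refine Set.eq_univ_of_forall fun p => Set.mem_iUnion.2 ?_
  by_contra hc
  push Not at hc
  have htop := span_range_eq_top A e hu hJ
  refine p.2.ne_top (top_le_iff.1 (htop ▸ Ideal.span_le.2 ?_))
  rintro _ ⟨i, rfl⟩
  let := (Subring.inclusion (iInf_le A i)).toAlgebra
  have := hloc i
  by_contra hn
  exact hc i ((range_specMap_eq (e i) (S := A i)).symm ▸ hn)

end Groth.Agent.VarDim1
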