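import Groth.Agent.VarDim1.Glue

universe u

open CategoryTheory AlgebraicGeometry

namespace Groth.Agent.VarDim1

variable {K : Type u} [Field K] {ι : Type} [Finite ι] [Nonempty ι] (A : ι → Subring K)
  [∀ i, IsNoetherianRing (A i)] [∀ i, IsFractionRing (A i) K]
  (hdim : ∀ i, ringKrullDim (A i) = 1) (hsl : ∀ i, Finite (MaximalSpectrum (A i)))
  (hgen : ∀ i j, i ≠ j → A i ⊔ A j = ⊤)

include hdim hsl hgen

theorem isFractionRing_iInf : IsFractionRing (⨅ i, A i : Subring K) K := by
  obtain ⟨e, hu, -, hloc, -⟩ := exists_glue_elements A hdim hsl hgen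
  refine IsFractionRing.of_field _ K fun k => ?_
  obtain ⟨i⟩ := ‹Nonempty ι›
  let := (Subring.inclusion (iInf_le A i)).toAlgebra
  have := hloc i
  obtain ⟨a, ⟨c, hc⟩, rfl⟩ := IsLocalization.exists_mk'_eq (nonZeroDivisors (A i)) k
  obtain ⟨⟨r₁, ⟨_, n, rfl⟩⟩, h₁⟩ := IsLocalization.surj (Submonoid.powers (e i)) a
  obtain ⟨⟨r₂, ⟨_, m, rfl⟩⟩, h₂⟩ := IsLocalization.surj (Submonoid.powers (e i)) c
  have he : ((e i : (⨅ i, A i : Subring K)) : K) ≠ 0 := fun h => (hu i).ne_zero (Subtype.ext h)
  refine ⟨r₁ * e i ^ m, r₂ * e i ^ n, ?_⟩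
  have h₁' : (a : K) * (e i : K) ^ n = r₁ := congrArg (fun z : A i => (z : K)) h₁
  have h₂' : (c : K) * (e i : K) ^ m = r₂ := congrArg (fun z : A i => (z : K)) h₂
  rw [IsFractionRing.mk'_eq_div]
  show ((a : A i) : K) / (c : K) = ((r₁ : K) * (e i : K) ^ m) / ((r₂ : K) * (e i : K) ^ n)
  have hc' : (c : K) ≠ 0 := fun h => nonZeroDivisors.ne_zero hc (Subtype.ext h)
  rw [← h₁', ← h₂', mul_assoc, mul_assoc (c : K), mul_comm ((e i : K) ^ n),
    mul_div_mul_right _ _ (mul_ne_zero (pow_ne_zero _ he) (pow_ne_zero _ he))]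

theorem isNoetherianRing_iInf : IsNoetherianRing (⨅ i, A i : Subring K) := by
  obtain ⟨e, hu, hJ, hloc, -⟩ := exists_glue_elements A hdim hsl hgen
  rw [isNoetherianRing_iff_ideal_fg]
  intro I
  refine Ideal.fg_of_localizationSpan (Set.range e) (span_range_eq_top A e hu hJ) ?_
  rintro ⟨_, i, rfl⟩
  let := (Subring.inclusion (iInf_le A i)).toAlgebra
  have := hloc i
  have : IsNoetherianRing (Localization.Away (e i)) :=
    isNoetherianRing_of_ringEquiv (A i) (IsLocalization.algEquiv (Submonoid.powers (e i)) (A i) _).toRingEquiv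
  exact IsNoetherian.noetherian _

theorem not_isField_iInf : ¬ IsField (⨅ i, A i : Subring K) := by
  intro hf
  have := isFractionRing_iInf A hdim hsl hgen
  obtain ⟨i⟩ := ‹Nonempty ι›
  refine not_isField_of_eq_one (hdim i) ⟨exists_pair_ne _, mul_comm, fun {a} ha => ?_⟩
  obtain ⟨⟨r, ⟨c, hc⟩⟩, h⟩ := IsLocalization.surj (nonZeroDivisors (⨅ i, A i : Subring K)) (a : K)⁻¹
  obtain ⟨c', hc'⟩ := hf.mul_inv_cancel (nonZeroDivisors.ne_zero hc)
  have h' : (a : K)⁻¹ * (c : K) = (r : K) := h
  have hc'' : (c : K) * (c' : K) = 1 := congrArg Subtype.val hc'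
  have hk : (a : K)⁻¹ = ((r * c' : (⨅ i, A i : Subring K)) : K) := by
    rw [Subring.coe_mul, ← h', mul_assoc, hc'', mul_one]
  exact ⟨⟨(a : K)⁻¹, hk ▸ iInf_le A i (r * c').2⟩, Subtype.ext (mul_inv_cancel₀ fun e => ha (Subtype.ext e))⟩

theorem krullDimLE_iInf : Ring.KrullDimLE 1 (⨅ i, A i : Subring K) := by
  obtain ⟨e, hu, hJ, hloc, -⟩ := exists_glue_elements A hdim hsl hgen
  rw [Ring.krullDimLE_one_iff_of_noZeroDivisors]
  intro p hp hpp
  obtain ⟨M, hM, hle⟩ := Ideal.exists_le_maximal p hpp.ne_top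
  suffices M ≤ p by exact (le_antisymm this hle) ▸ hM
  have hMp := hM.isPrime
  have hex : ∃ j, e j ∉ M := by
    by_contra hc
    push Not at hc
    refine hM.ne_top (top_le_iff.1 (span_range_eq_top A e hu hJ ▸ Ideal.span_le.2 ?_))
    rintro _ ⟨i, rfl⟩; exact hc i
  obtain ⟨j, hj⟩ := hex
  let := (Subring.inclusion (iInf_le A j)).toAlgebra
  have := hloc j
  have hd : ∀ q : Ideal (⨅ i, A i : Subring K), q.IsPrime → e j ∉ q →
      Disjoint (Submonoid.powers (e j) : Set (⨅ i, A i : Subring K)) q := fun q hq h =>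
    (Ideal.disjoint_powers_iff_notMem (e j) hq.isRadical).2 h
  have := krullDimLE_one_of_eq (hdim j)
  have dp := hd p hpp fun h => hj (hle h)
  have dM := hd M hMp hj
  have hP := IsLocalization.isPrime_of_isPrime_disjoint (Submonoid.powers (e j)) (A j) p hpp dp
  have hPM := IsLocalization.isPrime_of_isPrime_disjoint (Submonoid.powers (e j)) (A j) M hMp dM
  have hne : p.map (algebraMap _ (A j)) ≠ ⊥ := by
    rw [Ne, RingHom.algebraMap_toAlgebra, Ideal.map_eq_bot_iff_of_injective (Subring.inclusion_injective (iInf_le A j))]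
    exact hp
  have heq := (hP.isMaximal_of_ne_bot hne).eq_of_le hPM.ne_top (Ideal.map_mono hle)
  rw [← IsLocalization.under_map_of_isPrime_disjoint (Submonoid.powers (e j)) (A j) hMp dM, ← heq,
    IsLocalization.under_map_of_isPrime_disjoint (Submonoid.powers (e j)) (A j) hpp dp]

theorem ringKrullDim_iInf : ringKrullDim (⨅ i, A i : Subring K) = 1 := by
  have := krullDimLE_iInf A hdim hsl hgen
  refine le_antisymm Order.KrullDimLE.krullDim_le ?_
  obtain ⟨i⟩ := ‹Nonempty ι›
  obtain ⟨e, -, -, hloc, -⟩ := exists_glue_elements A hdim hsl hgen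
  let := (Subring.inclusion (iInf_le A i)).toAlgebra
  have := hloc i
  rw [← hdim i]
  exact Order.krullDim_le_of_strictMono (PrimeSpectrum.comap (algebraMap (⨅ i, A i : Subring K) (A i)))
    (Monotone.strictMono_of_injective (fun _ _ h => Ideal.comap_mono h)
      (PrimeSpectrum.localization_comap_injective (A i) (Submonoid.powers (e i))))

theorem existsUnique_range (m : PrimeSpectrum (⨅ i, A i : Subring K)) (hm : m.asIdeal.IsMaximal) :
    ∃! i, m ∈ Set.range (Spec.map (CommRingCat.ofHom (Subring.inclusion (iInf_le A i)))).base := by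
  obtain ⟨i, hi⟩ := Set.mem_iUnion.1 (iUnion_range_eq_univ A hdim hsl hgen ▸ Set.mem_univ m)
  refine ⟨i, hi, fun j hj => ?_⟩
  by_contra hne
  obtain ⟨e, hu, hJ, hloc, -⟩ := exists_glue_elements A hdim hsl hgen
  have hmem : e j ∉ m.asIdeal := by
    let := (Subring.inclusion (iInf_le A j)).toAlgebra
    have := hloc j
    have h := range_specMap_eq (e j) (S := A j)
    exact h.le hj
  have := krullDimLE_one_of_eq (hdim i)
  obtain ⟨P, rfl⟩ := hi
  refine hmem ?_
  refine algebraMap_mem_jacobson_iff.1 (hJ j i fun h => hne h.symm) _ (P.2.isMaximal_of_ne_bot fun h0 => ?_)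
  refine Ring.ne_bot_of_isMaximal_of_not_isField hm (not_isField_iInf A hdim hsl hgen) ?_
  show P.asIdeal.comap (Subring.inclusion (iInf_le A i)) = ⊥
  rw [h0]; exact Ideal.comap_bot_of_injective _ (Subring.inclusion_injective (iInf_le A i))

theorem finite_maximalSpectrum_iInf : Finite (MaximalSpectrum (⨅ i, A i : Subring K)) := by
  classical
  cases nonempty_fintype ι
  have hfin : ∀ i, ({q : PrimeSpectrum (A i) | q.asIdeal.IsMaximal} : Set _).Finite := fun i => by
    have := hsl i
    exact (Set.finite_range fun m : MaximalSpectrum (A i) => m.toPrimeSpectrum).subset fun q hq => ⟨⟨q.asIdeal, hq⟩, rfl⟩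
  let S : Set (PrimeSpectrum (⨅ i, A i : Subring K)) :=
    ⋃ i, (Spec.map (CommRingCat.ofHom (Subring.inclusion (iInf_le A i)))).base '' {q | q.asIdeal.IsMaximal}
  have hS : S.Finite := Set.finite_iUnion fun i => (hfin i).image _
  have hmem : ∀ m : MaximalSpectrum (⨅ i, A i : Subring K), m.toPrimeSpectrum ∈ S := fun m => by
    obtain ⟨i, P, hP⟩ := Set.mem_iUnion.1 (iUnion_range_eq_univ A hdim hsl hgen ▸ Set.mem_univ m.toPrimeSpectrum)
    have := krullDimLE_one_of_eq (hdim i)
    refine Set.mem_iUnion.2 ⟨i, P, P.2.isMaximal_of_ne_bot fun h0 => ?_, hP⟩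
    refine Ring.ne_bot_of_isMaximal_of_not_isField m.isMaximal (not_isField_iInf A hdim hsl hgen) ?_
    rw [show m.asIdeal = P.asIdeal.comap (Subring.inclusion (iInf_le A i)) from (congrArg PrimeSpectrum.asIdeal hP).symm, h0]
    exact Ideal.comap_bot_of_injective _ (Subring.inclusion_injective (iInf_le A i))
  have := hS.to_subtype
  exact Finite.of_injective (fun m => (⟨_, hmem m⟩ : S)) fun a b h =>
    MaximalSpectrum.toPrimeSpectrum_injective (congrArg Subtype.val h)

omit hdim hsl hgen

theorem glue_pair (A B : Subring K) [IsFractionRing A K] [IsFractionRing B K] [IsNoetherianRing A] [IsNoetherianRing B]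
    (hdimA : ringKrullDim A = 1) (hdimB : ringKrullDim B = 1)
    (hslA : Finite (MaximalSpectrum A)) (hslB : Finite (MaximalSpectrum B)) (hgen : A ⊔ B = ⊤) :
    IsOpenImmersion (Spec.map (CommRingCat.ofHom (Subring.inclusion (inf_le_left : A ⊓ B ≤ A)))) ∧
      IsOpenImmersion (Spec.map (CommRingCat.ofHom (Subring.inclusion (inf_le_right : A ⊓ B ≤ B)))) ∧
      Set.range (Spec.map (CommRingCat.ofHom (Subring.inclusion (inf_le_left : A ⊓ B ≤ A)))).base ∪
        Set.range (Spec.map (CommRingCat.ofHom (Subring.inclusion (inf_le_right : A ⊓ B ≤ B)))).base = Set.univ ∧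
      IsPushout (CommRingCat.ofHom (Subring.inclusion (inf_le_left : A ⊓ B ≤ A)))
        (CommRingCat.ofHom (Subring.inclusion (inf_le_right : A ⊓ B ≤ B)))
        (CommRingCat.ofHom A.subtype) (CommRingCat.ofHom B.subtype) := by
  let F : Fin 2 → Subring K := ![A, B]
  have hN : ∀ i, IsNoetherianRing (F i) := fun i => by fin_cases i <;> assumption
  have hF : ∀ i, IsFractionRing (F i) K := fun i => by fin_cases i <;> assumption
  have hd : ∀ i, ringKrullDim (F i) = 1 := fun i => by fin_cases i <;> assumption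
  have hs : ∀ i, Finite (MaximalSpectrum (F i)) := fun i => by fin_cases i <;> assumption
  have hg : ∀ i j, i ≠ j → F i ⊔ F j = ⊤ := fun i j h => by
    fin_cases i <;> fin_cases j
    · exact absurd rfl h
    · exact hgen
    · exact (sup_comm B A).trans hgen
    · exact absurd rfl h
  have hR : A ⊓ B = ⨅ i, F i := by
    apply le_antisymm
    · refine le_iInf fun i => ?_
      fin_cases i
      · exact inf_le_left
      · exact inf_le_right
    · exact le_inf (iInf_le F 0) (iInf_le F 1)
  have key : ∀ (R : Subring K) (_ : R = ⨅ i, F i) (h0 : R ≤ F 0) (h1 : R ≤ F 1),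
      IsOpenImmersion (Spec.map (CommRingCat.ofHom (Subring.inclusion h0))) ∧
      IsOpenImmersion (Spec.map (CommRingCat.ofHom (Subring.inclusion h1))) ∧
      Set.range (Spec.map (CommRingCat.ofHom (Subring.inclusion h0))).base ∪
        Set.range (Spec.map (CommRingCat.ofHom (Subring.inclusion h1))).base = Set.univ ∧
      IsPushout (CommRingCat.ofHom (Subring.inclusion h0)) (CommRingCat.ofHom (Subring.inclusion h1))
        (CommRingCat.ofHom (F 0).subtype) (CommRingCat.ofHom (F 1).subtype) := by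
    intro R hR h0 h1
    subst hR
    refine ⟨isOpenImmersion_of_glue F hd hs hg 0, isOpenImmersion_of_glue F hd hs hg 1, ?_, ?_⟩
    · refine Set.eq_univ_of_forall fun p => ?_
      obtain ⟨i, hi⟩ := Set.mem_iUnion.1 (iUnion_range_eq_univ F hd hs hg ▸ Set.mem_univ p)
      fin_cases i
      · exact Or.inl hi
      · exact Or.inr hi
    · obtain ⟨e, hu, -, hloc, hpow⟩ := exists_glue_elements F hd hs hg
      let := (Subring.inclusion (iInf_le F 1)).toAlgebra
      have := hloc 1
      have : IsLocalization ((Submonoid.powers (e 1)).map (Subring.inclusion h0)) K := by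
        rw [Submonoid.map_powers]
        refine IsLocalization.Away.mk (Subring.inclusion h0 (e 1)) ?_ (fun k => ?_) fun a b hab => ?_
        · exact IsUnit.mk0 _ fun h => (hu 1).ne_zero (Subtype.ext h)
        · obtain ⟨N, hN⟩ := hpow 1 0 zero_ne_one k
          exact ⟨N, ⟨_, hN N le_rfl⟩, mul_comm _ _⟩
        · exact ⟨0, by rw [pow_zero, one_mul, one_mul]; exact IsFractionRing.injective (F 0) K hab⟩
      exact CommRingCat.isPushout_of_isLocalization (Subring.inclusion h0) (F 1).subtype rfl (Submonoid.powers (e 1))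
  exact key (A ⊓ B) hR inf_le_left inf_le_right

end Groth.Agent.VarDim1
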